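import Cfsg.Agent.Chevalley.TwTorus.Main
import Cfsg.Agent.H37.Chev.Order
import Cfsg.Agent.H37.Weyl.Summary

/-!
The self-centralising cyclic tori of the groups of type F4 and E8.
-/
set_option autoImplicit false
set_option maxRecDepth 100000

namespace Cfsg.Agent.Chevalley.TwTorus

open Cfsg.Lie Cfsg.Agent.H37 Cfsg.Agent.H37.RootSys Matrix Polynomial

theorem natAbs_det_of_cert {l : ℕ} {A : Matrix (Fin l) (Fin l) ℤ} (C : KerCert A 1 0) :
    A.det.natAbs = 1 :=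
  Int.isUnit_iff_natAbs_eq.1 (Matrix.isUnit_det_of_right_inverse (B := C.Y) (by
    ext i j
    rw [Matrix.mul_apply, C.hY i j, Fin.sum_univ_zero, sub_zero, Matrix.one_apply]))

theorem natAbs_cartanT {D : ChevalleyDatum} {F : Type*} [Field F] (Q : H37.Chev.Data D F)
    (A : Matrix (Fin Q.X.n) (Fin Q.X.n) ℤ)
    (hA : ∀ i j, A i j = D.cartan i.val (D.simple j.val)) (h : A.det.natAbs = 1) :
    (cartanT Q).det.natAbs = 1 := by
  have e : cartanT Q = A.transpose := Matrix.ext fun i j => (hA j i).symm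
  rwa [e, Matrix.det_transpose]

/-- A prime divisor of a cyclotomic value prime to the index has the index as order. -/
theorem modEq_one_of_dvd {d q e r : ℕ} (hd : 0 < d) [hr : Fact r.Prime]
    (he : (cyclotomic d ℤ).eval (q : ℤ) = e) (hre : r ∣ e) (hrd : ¬ r ∣ d) : d ∣ r - 1 := by
  haveI : NeZero ((d : ℕ) : ZMod r) := ⟨fun h => hrd ((ZMod.natCast_eq_zero_iff _ r).1 h)⟩
  have hroot : IsRoot (cyclotomic d (ZMod r)) (q : ZMod r) := by
    rw [IsRoot.def, ← map_cyclotomic_int d (ZMod r), eval_map,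
      show ((q : ℕ) : ZMod r) = Int.castRingHom (ZMod r) (q : ℤ) by simp,
      Polynomial.eval₂_at_apply, he]
    simpa using (ZMod.natCast_eq_zero_iff _ r).2 hre
  have hp := isRoot_cyclotomic_iff.1 hroot
  have h0 : (q : ZMod r) ≠ 0 := hp.ne_zero hd.ne'
  have h1 := hp.eq_orderOf
  rw [h1]
  exact ZMod.orderOf_dvd_card_sub_one h0

theorem eval_cyclotomic_eight (q : ℤ) : (cyclotomic 8 ℤ).eval q = q ^ 4 + 1 := by
  have h := cyclotomic_prime_pow_eq_geom_sum (R := ℤ) (n := 2) Nat.prime_two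
  rw [show (8 : ℕ) = 2 ^ (2 + 1) by norm_num, h]
  simp [Finset.sum_range_succ]
  ring

theorem eval_cyclotomic_thirty (q : ℤ) :
    (cyclotomic 30 ℤ).eval q = q ^ 8 + q ^ 7 - q ^ 5 - q ^ 4 - q ^ 3 + q + 1 := by
  have h6 : ∀ x : ℤ, (cyclotomic 6 ℤ).eval x = x ^ 2 - x + 1 := by
    intro x
    have h := congrArg (Polynomial.eval x) (cyclotomic_expand_eq_cyclotomic_mul (R := ℤ)
      (p := 3) (n := 2) Nat.prime_three (by norm_num))
    simp only [cyclotomic_two, expand_eval, eval_mul, eval_add, eval_X, eval_one,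
      show (2 * 3 : ℕ) = 6 from rfl] at h
    by_cases hx : x + 1 = 0
    · have hx' : x = -1 := by omega
      subst hx'
      have h3 := eval_one_cyclotomic_prime (R := ℤ) (p := 3)
      have h6' := congrArg (Polynomial.eval (-1 : ℤ)) (prod_cyclotomic_eq_geom_sum (n := 6) (by norm_num) ℤ)
      rw [show (Nat.divisors 6).erase 1 = {2, 3, 6} by decide] at h6'
      simp [Finset.sum_range_succ, cyclotomic_two, cyclotomic_three] at h6' ⊢
    · refine mul_right_cancel₀ hx ?_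
      rw [← h]; ring
  have h := congrArg (Polynomial.eval q) (cyclotomic_expand_eq_cyclotomic_mul (R := ℤ)
    (p := 5) (n := 6) (by norm_num) (by norm_num))
  rw [expand_eval, eval_mul, h6, h6] at h
  have hne : q ^ 2 - q + 1 ≠ 0 := by nlinarith [sq_nonneg (2 * q - 1)]
  refine mul_right_cancel₀ hne ?_
  rw [← h]; ring

/-- The Gram matrix of F4. -/
def gramF4 : Matrix (Fin 4) (Fin 4) ℤ :=
  !![2, -1, 0, 0; -1, 2, -2, 0; 0, -2, 4, -2; 0, 0, -2, 4]

/-- Twice the simple roots of F4, by columns. -/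
def rootF4 : Matrix (Fin 4) (Fin 4) ℤ :=
  !![1, 0, 0, 0; -1, 0, 0, 2; -1, 0, 2, -2; -1, 2, -2, 0]

/-- Twice the simple roots of E8, by columns. -/
def rootE8 : Matrix (Fin 8) (Fin 8) ℤ :=
  !![1, 2, -2, 0, 0, 0, 0, 0; -1, 2, 2, -2, 0, 0, 0, 0; -1, 0, 0, 2, -2, 0, 0, 0;
    -1, 0, 0, 0, 2, -2, 0, 0; -1, 0, 0, 0, 0, 2, -2, 0; -1, 0, 0, 0, 0, 0, 2, -2;
    -1, 0, 0, 0, 0, 0, 0, 2; 1, 0, 0, 0, 0, 0, 0, 0]

theorem gramF4_eq : ((2 : ℕ) : ℤ) • gramF4 = rootF4.transpose * rootF4 := by decide +kernel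

theorem gramE8_eq : ((4 : ℕ) : ℤ) • cartanE8 = rootE8.transpose * rootE8 := by decide +kernel

theorem natAbs_gramF4 : gramF4.det.natAbs = 4 := by
  have e : gramF4 = Matrix.diagonal ![1, 1, 2, 2] * cartanF4 := by decide +kernel
  rw [e, Matrix.det_mul, Matrix.det_diagonal, Int.natAbs_mul, natAbs_det_of_cert kerCertF4]
  rfl

theorem quadF4 : ∀ s : Fin 48, (fun i : Fin 4 => F4.tab.cf chevF4 s.val i) ⬝ᵥ
    gramF4.mulVec (fun i : Fin 4 => F4.tab.cf chevF4 s.val i) ≤ (4 : ℕ) := by decide +kernel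

theorem quadE8 : ∀ s : Fin 240, (fun i : Fin 8 => E8.tab.cf chevE8 s.val i) ⬝ᵥ
    cartanE8.mulVec (fun i : Fin 8 => E8.tab.cf chevE8 s.val i) ≤ (2 : ℕ) := by decide +kernel

theorem zmod_ne_of_forall {l : ℕ} {a : ℕ} (h : (a : ZMod l) ≠ 0) : ¬ l ∣ a :=
  fun hd => h ((ZMod.natCast_eq_zero_iff _ l).2 hd)

theorem exists_torus_F4 {F : Type*} [Field F] [Fintype F] (q : ℕ) (hq : Fintype.card F = q) :
    ∃ H : Subgroup ↥(chevF4.group F), IsCyclic ↥H ∧ Nat.card ↥H = q ^ 4 + 1 ∧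
      Subgroup.centralizer (H : Set ↥(chevF4.group F)) = H := by
  classical
  obtain ⟨p, hp⟩ := CharP.exists F
  haveI : Fact p.Prime := ⟨CharP.char_is_prime F p⟩
  haveI : NeZero (8 : ℕ) := ⟨by norm_num⟩
  have hq1 : 1 < q := hq ▸ Fintype.one_lt_card
  have he : (cyclotomic 8 ℤ).eval (q : ℤ) = ((q ^ 4 + 1 : ℕ) : ℤ) := by
    rw [eval_cyclotomic_eight]; push_cast; rfl
  have h4 : ¬ 4 ∣ q ^ 4 + 1 := zmod_ne_of_forall (by
    push_cast; exact (show ∀ x : ZMod 4, x ^ 4 + 1 ≠ 0 by decide) _)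
  have h3 : ¬ 3 ∣ q ^ 4 + 1 := zmod_ne_of_forall (by
    push_cast; exact (show ∀ x : ZMod 3, x ^ 4 + 1 ≠ 0 by decide) _)
  have h5 : ¬ 5 ∣ q ^ 4 + 1 := zmod_ne_of_forall (by
    push_cast; exact (show ∀ x : ZMod 5, x ^ 4 + 1 ≠ 0 by decide) _)
  have h7 : ¬ 7 ∣ q ^ 4 + 1 := zmod_ne_of_forall (by
    push_cast; exact (show ∀ x : ZMod 7, x ^ 4 + 1 ≠ 0 by decide) _)
  obtain ⟨r, hr, hr2, hre⟩ : ∃ r : ℕ, r.Prime ∧ r ≠ 2 ∧ r ∣ q ^ 4 + 1 := by
    have h16 : 2 ^ 4 ≤ q ^ 4 := Nat.pow_le_pow_left hq1 4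
    rcases Nat.even_or_odd (q ^ 4 + 1) with ⟨k, hk⟩ | hodd
    · obtain ⟨r, hr, hrk⟩ := Nat.exists_prime_and_dvd (show k ≠ 1 by omega)
      refine ⟨r, hr, ?_, hk ▸ dvd_add hrk hrk⟩
      rintro rfl
      exact h4 (by obtain ⟨j, rfl⟩ := hrk; exact ⟨j, by omega⟩)
    · obtain ⟨r, hr, hrk⟩ := Nat.exists_prime_and_dvd (show q ^ 4 + 1 ≠ 1 by omega)
      refine ⟨r, hr, ?_, hrk⟩
      rintro rfl
      exact absurd hrk (Nat.two_dvd_ne_zero.2 (Nat.odd_iff.1 hodd))
  haveI := Fact.mk hr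
  have hr8 : ¬ r ∣ 8 := fun h =>
    hr2 ((Nat.prime_dvd_prime_iff_eq hr Nat.prime_two).1 (hr.dvd_of_dvd_pow (n := 3) h))
  have hr17 : 8 < r := by
    have h := modEq_one_of_dvd (by norm_num) he hre hr8
    have := hr.two_le
    have := Nat.le_of_dvd (by omega) h
    omega
  set E := FiniteField.Extension F p 8
  refine exists_torus hq (H37.Chev.dataF4 E) (by have h := H37.Chev.diag_F4 E; rw [one_mul] at h; exact h)
    (degs := [2, 6, 8, 12]) Weyl.degsF4 rfl (show Nat.totient 8 = 4 by decide)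
    (natAbs_cartanT (H37.Chev.dataF4 E) cartanF4
      (fun i j => of_decide_eq_true ((show ∀ i j : Fin 4,
        decide (cartanF4 i j = chevF4.cartan i.val (chevF4.simple j.val)) = true by
          decide +kernel) i j)) (natAbs_det_of_cert kerCertF4))
    gramF4 rootF4 (c := 2) (L := 4) (Bd := 8) (by norm_num) gramF4_eq
    (lt_of_lt_of_eq (by norm_num : 0 < 4) natAbs_gramF4.symm)
    (fun s hs => quadF4 ⟨s, hs⟩)
    (by
      show ((4 : ℕ) : ℤ) ^ 4 ≤ (gramF4.det.natAbs : ℤ) * ((8 : ℕ) : ℤ) ^ 2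
      rw [natAbs_gramF4]; norm_num)
    he ?_ (r := r) hre hr8 hr17 ?_ ?_
  · intro l hl hl8 hdiv
    have : l ∣ q ^ 4 + 1 := dvd_trans (dvd_mul_right l l) hdiv
    interval_cases l <;> first | exact h4 hdiv | contradiction | (norm_num at hl; done)
  · intro h
    rcases (Nat.Prime.dvd_mul hr).1 (show r ∣ 2 ^ 7 * 3 ^ 2 from by simpa using h) with h | h
    · have := Nat.le_of_dvd (by norm_num) (hr.dvd_of_dvd_pow h); omega
    · have := Nat.le_of_dvd (by norm_num) (hr.dvd_of_dvd_pow h); omega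
  · have hcard := (H37.Chev.dataF4 F).card_group (degs := [2, 6, 8, 12]) Weyl.degsF4 rfl (d := 1)
      (H37.Chev.diag_F4 F)
    rw [one_mul, Nat.card_eq_fintype_card (α := F), hq] at hcard
    rw [hcard]
    refine dvd_mul_of_dvd_right (hre.trans ?_) _
    refine dvd_trans ?_ (List.dvd_prod (a := q ^ 8 - 1) (by simp))
    exact ⟨q ^ 4 - 1, by rw [← Nat.sq_sub_sq (q ^ 4) 1, one_pow, ← pow_mul]⟩

theorem exists_torus_E8 {F : Type*} [Field F] [Fintype F] (q : ℕ) (hq : Fintype.card F = q) :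
    ∃ H : Subgroup ↥(chevE8.group F), IsCyclic ↥H ∧
      Nat.card ↥H = q ^ 8 + q ^ 7 - q ^ 5 - q ^ 4 - q ^ 3 + q + 1 ∧
      Subgroup.centralizer (H : Set ↥(chevE8.group F)) = H := by
  classical
  obtain ⟨p, hp⟩ := CharP.exists F
  haveI : Fact p.Prime := ⟨CharP.char_is_prime F p⟩
  haveI : NeZero (30 : ℕ) := ⟨by norm_num⟩
  have hq1 : 1 < q := hq ▸ Fintype.one_lt_card
  have h85 : q ^ 5 + q ^ 4 + q ^ 3 ≤ q ^ 8 + q ^ 7 := by
    have h3 : q ^ 3 ≤ q ^ 4 := Nat.pow_le_pow_right (by omega) (by norm_num)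
    have h4 : q ^ 4 ≤ q ^ 5 := Nat.pow_le_pow_right (by omega) (by norm_num)
    have h5 : q ^ 5 ≤ q ^ 7 := Nat.pow_le_pow_right (by omega) (by norm_num)
    have h8 : 2 ^ 3 * q ^ 5 ≤ q ^ 8 := by
      rw [show q ^ 8 = q ^ 3 * q ^ 5 by ring]
      exact Nat.mul_le_mul_right _ (Nat.pow_le_pow_left hq1 3)
    omega
  set e := q ^ 8 + q ^ 7 - q ^ 5 - q ^ 4 - q ^ 3 + q + 1 with hedef
  have hcast : (e : ℤ) = (q : ℤ) ^ 8 + q ^ 7 - q ^ 5 - q ^ 4 - q ^ 3 + q + 1 := by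
    have h : e + q ^ 5 + q ^ 4 + q ^ 3 = q ^ 8 + q ^ 7 + q + 1 := by omega
    have h' := congrArg (Nat.cast : ℕ → ℤ) h
    push_cast at h'
    linarith
  have he : (cyclotomic 30 ℤ).eval (q : ℤ) = (e : ℤ) := by rw [eval_cyclotomic_thirty, hcast]
  have hne : ∀ l : ℕ, (∀ x : ZMod l, x ^ 8 + x ^ 7 - x ^ 5 - x ^ 4 - x ^ 3 + x + 1 ≠ 0) →
      ¬ l ∣ e := fun l h hd => h (q : ZMod l) (by
    have := (ZMod.intCast_zmod_eq_zero_iff_dvd (e : ℤ) l).2 (Int.natCast_dvd_natCast.2 hd)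
    rw [hcast] at this
    push_cast at this
    exact this)
  have h2 := hne 2 (by decide)
  have h3 := hne 3 (by decide)
  have h5 := hne 5 (by decide)
  have h7 := hne 7 (by decide)
  have h11 := hne 11 (by decide)
  have h13 := hne 13 (by decide)
  obtain ⟨r, hr, hre⟩ := Nat.exists_prime_and_dvd (show e ≠ 1 by omega)
  haveI := Fact.mk hr
  have hr30 : ¬ r ∣ 30 := fun h => by
    have := Nat.le_of_dvd (by norm_num) h
    interval_cases r <;> first | contradiction | omega | (norm_num at hr; done) | (norm_num at h; done)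
  have hr31 : 30 < r := by
    have h := modEq_one_of_dvd (by norm_num) he hre hr30
    have := hr.two_le
    have := Nat.le_of_dvd (by omega) h
    omega
  set E := FiniteField.Extension F p 30
  refine exists_torus hq (H37.Chev.dataE8 E) (by have h := H37.Chev.diag_E8 E; rw [one_mul] at h; exact h)
    (degs := [2, 8, 12, 14, 18, 20, 24, 30]) Weyl.degsE8 rfl (show Nat.totient 30 = 8 by decide)
    (natAbs_cartanT (H37.Chev.dataE8 E) cartanE8
      (fun i j => of_decide_eq_true ((show ∀ i j : Fin 8,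
        decide (cartanE8 i j = chevE8.cartan i.val (chevE8.simple j.val)) = true by
          decide +kernel) i j)) (natAbs_det_of_cert kerCertE8))
    cartanE8 rootE8 (c := 4) (L := 2) (Bd := 16) (by norm_num) gramE8_eq
    (lt_of_lt_of_eq Nat.one_pos (natAbs_det_of_cert kerCertE8).symm)
    (fun s hs => quadE8 ⟨s, hs⟩)
    (by
      show ((2 : ℕ) : ℤ) ^ 8 ≤ (cartanE8.det.natAbs : ℤ) * ((16 : ℕ) : ℤ) ^ 2
      rw [natAbs_det_of_cert kerCertE8]; norm_num)
    he ?_ (r := r) hre hr30 (by omega) ?_ ?_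
  · intro l hl hl16 hdiv
    have : l ∣ e := dvd_trans (dvd_mul_right l l) hdiv
    interval_cases l <;> first | contradiction | (norm_num at hl; done)
  · intro h
    rcases (Nat.Prime.dvd_mul hr).1 (show r ∣ 2 ^ 14 * (3 ^ 5 * (5 ^ 2 * 7)) from by simpa using h)
      with h | h
    · have := Nat.le_of_dvd (by norm_num) (hr.dvd_of_dvd_pow h); omega
    rcases (Nat.Prime.dvd_mul hr).1 h with h | h
    · have := Nat.le_of_dvd (by norm_num) (hr.dvd_of_dvd_pow h); omega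
    rcases (Nat.Prime.dvd_mul hr).1 h with h | h
    · have := Nat.le_of_dvd (by norm_num) (hr.dvd_of_dvd_pow h); omega
    · have := Nat.le_of_dvd (by norm_num) h; omega
  · have hcard := (H37.Chev.dataE8 F).card_group (degs := [2, 8, 12, 14, 18, 20, 24, 30]) Weyl.degsE8
      rfl (d := 1) (H37.Chev.diag_E8 F)
    rw [one_mul, Nat.card_eq_fintype_card (α := F), hq] at hcard
    rw [hcard]
    refine dvd_mul_of_dvd_right (hre.trans ?_) _
    refine dvd_trans ?_ (List.dvd_prod (a := q ^ 30 - 1) (by simp))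
    have h := Polynomial.eval_dvd (x := (q : ℤ)) (Polynomial.cyclotomic.dvd_X_pow_sub_one 30 ℤ)
    rw [he, eval_sub, eval_pow, eval_X, eval_one] at h
    rw [← Int.natCast_dvd_natCast, Nat.cast_sub (Nat.one_le_pow _ _ (by omega))]
    push_cast
    exact h

end Cfsg.Agent.Chevalley.TwTorus
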