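import Cfsg.Agent.H27.FieldFixed
import Cfsg.Agent.Chevalley.Functorial
import Mathlib.FieldTheory.Finite.Extension

/-!
The Chevalley group over a finite field as the fixed points of a Frobenius map over an extension.
-/
set_option autoImplicit false
set_option linter.style.haveILetI false
set_option linter.unusedSectionVars false

namespace Cfsg.Agent.Chevalley.TwTorus

open Cfsg.Lie Cfsg.Agent.H37 Cfsg.Agent.H37.RootSys

variable {D : ChevalleyDatum} {F E : Type*} [Field F] [Field E] (K : Chevalley.Cert D)

include K in
theorem map_group_mem (f : F →+* E) {g : GL D.Idx F} (hg : g ∈ D.group F) :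
    Matrix.GeneralLinearGroup.map f g ∈ D.group E := by
  have : D.group F ≤ (D.group E).comap (Matrix.GeneralLinearGroup.map f) := by
    conv_lhs => rw [K.group_eq]
    refine (Subgroup.closure_le _).2 ?_
    rintro _ ⟨r, t, -, rfl⟩
    rw [SetLike.mem_coe, Subgroup.mem_comap, K.map_xU]
    exact K.xU_mem_group E r (f t)
  exact this hg

/-- Extension of scalars. -/
def mapG (f : F →+* E) : ↥(D.group F) →* ↥(D.group E) :=
  ((Matrix.GeneralLinearGroup.map f).comp (D.group F).subtype).codRestrict (D.group E)
    fun g => map_group_mem K f g.2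

theorem coe_mapG (f : F →+* E) (g : ↥(D.group F)) :
    (mapG K f g : GL D.Idx E) = Matrix.GeneralLinearGroup.map f (g : GL D.Idx F) := rfl

theorem mapG_injective (f : F →+* E) : Function.Injective (mapG K f) := fun a b h => by
  refine Subtype.ext (Units.ext ?_)
  ext i j
  have := congrFun (congrFun (congrArg (fun g : ↥(D.group E) => ((g : GL D.Idx E) : Matrix D.Idx D.Idx E)) h) i) j
  exact f.injective this

/-- A field automorphism on the group. -/
def fieldG (σ : E ≃+* E) : MulAut ↥(D.group E) where
  toFun := mapG K σ.toRingHom
  invFun := mapG K σ.symm.toRingHom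
  left_inv g := by
    refine Subtype.ext (Units.ext ?_)
    ext i j
    exact σ.symm_apply_apply _
  right_inv g := by
    refine Subtype.ext (Units.ext ?_)
    ext i j
    exact σ.apply_symm_apply _
  map_mul' := map_mul _

variable (F) [Finite F] (p : ℕ) [Fact p.Prime] [CharP F p] (d : ℕ) [NeZero d]

/-- The Frobenius of the extension. -/
noncomputable def frobE : FiniteField.Extension F p d ≃+* FiniteField.Extension F p d :=
  (FiniteField.Extension.frob F p d).toRingEquiv

theorem frobE_apply (x : FiniteField.Extension F p d) : frobE F p d x = x ^ Nat.card F :=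
  FiniteField.Extension.frob_apply F p d

variable {F p d}

theorem frobE_eq_iff {x : FiniteField.Extension F p d} :
    frobE F p d x = x ↔ ∃ a : F, algebraMap F (FiniteField.Extension F p d) a = x := by
  classical
  haveI : Fintype F := Fintype.ofFinite F
  rw [frobE_apply, Nat.card_eq_fintype_card]
  constructor
  · intro h
    have hq : 1 < Fintype.card F := Fintype.one_lt_card
    have hP : (Polynomial.X ^ Fintype.card F - Polynomial.X :
        Polynomial (FiniteField.Extension F p d)) ≠ 0 :=
      FiniteField.X_pow_card_sub_X_ne_zero _ hq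
    set f := algebraMap F (FiniteField.Extension F p d)
    have hle : Finset.univ.image f ⊆
        (Polynomial.X ^ Fintype.card F - Polynomial.X :
          Polynomial (FiniteField.Extension F p d)).roots.toFinset := fun y hy => by
      obtain ⟨a, -, rfl⟩ := Finset.mem_image.1 hy
      rw [Multiset.mem_toFinset, Polynomial.mem_roots hP]
      simp [← map_pow, FiniteField.pow_card]
    have hc : ((Polynomial.X ^ Fintype.card F - Polynomial.X :
        Polynomial (FiniteField.Extension F p d)).roots.toFinset).card
          ≤ (Finset.univ.image f).card := by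
      refine le_trans (Multiset.toFinset_card_le _) (le_trans (Polynomial.card_roots' _) ?_)
      rw [FiniteField.X_pow_card_sub_X_natDegree_eq _ hq,
        Finset.card_image_of_injective _ f.injective, Finset.card_univ]
    have hx : x ∈ Finset.univ.image f := by
      rw [Finset.eq_of_subset_of_card_le hle hc, Multiset.mem_toFinset, Polynomial.mem_roots hP]
      simp [h]
    obtain ⟨a, -, ha⟩ := Finset.mem_image.1 hx
    exact ⟨a, ha⟩
  · rintro ⟨a, rfl⟩
    rw [← map_pow, FiniteField.pow_card]

variable (Q : Chev.Data D (FiniteField.Extension F p d))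

theorem range_mapG
    (hH : Nat.card (D.diagonalSubgroup (FiniteField.Extension F p d))
      = (Nat.card (FiniteField.Extension F p d) - 1) ^ D.rank)
    (g : ↥(D.group (FiniteField.Extension F p d))) :
    g ∈ (mapG Q.K (algebraMap F (FiniteField.Extension F p d))).range ↔
      fieldG Q.K (frobE F p d) g = g := by
  set f := algebraMap F (FiniteField.Extension F p d)
  constructor
  · rintro ⟨a, rfl⟩
    refine Subtype.ext (Units.ext ?_)
    ext i j
    exact frobE_eq_iff.2 ⟨_, rfl⟩
  · intro h
    have A : H27.FieldFixed.Act Q (fieldG Q.K (frobE F p d)) (frobE F p d) :=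
      ⟨fun r _ t => Subtype.ext (Q.K.map_xU _ r t)⟩
    refine (Subgroup.closure_le _).2 ?_ (H27.FieldFixed.fixed_mem A hH h)
    rintro _ ⟨r, -, t, ht, rfl⟩
    obtain ⟨a, rfl⟩ := frobE_eq_iff.1 ht
    exact ⟨⟨Q.K.xU F r a, Q.K.xU_mem_group F r a⟩, Subtype.ext (Q.K.map_xU f r a)⟩

end Cfsg.Agent.Chevalley.TwTorus
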