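import Mathlib

/-!
Integer matrices of finite order with an eigenvector modulo a prime for a primitive root of unity
of full degree; Gram determinant bounds; the index of the range of an integer matrix.
-/
set_option autoImplicit false
set_option linter.style.haveILetI false

namespace Cfsg.Agent.Chevalley.TwTorus

open Polynomial Matrix

variable {n : ℕ}

theorem aeval_mulVec {R : Type*} [CommRing R] (M : Matrix (Fin n) (Fin n) R) {b : Fin n → R} {t : R}
    (h : M.mulVec b = t • b) (f : R[X]) : (aeval M f).mulVec b = f.eval t • b := by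
  induction f using Polynomial.induction_on' with
  | add f g hf hg => rw [map_add, add_mulVec, hf, hg, eval_add, add_smul]
  | monomial m a =>
    have hp : ∀ m, (M ^ m).mulVec b = t ^ m • b := by
      intro m
      induction m with
      | zero => simp
      | succ m ih => rw [pow_succ, ← mulVec_mulVec, h, mulVec_smul, ih, smul_smul, pow_succ']
    rw [aeval_monomial, eval_monomial, ← Algebra.smul_def, smul_mulVec, hp, smul_smul]

/-- Annihilation by a cyclotomic polynomial of full degree. -/
theorem cyclo_aeval (M : Matrix (Fin n) (Fin n) ℤ) {N d r : ℕ} [hr : Fact r.Prime]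
    (hd : d.totient = n) (hN : 0 < N) (hMN : M ^ N = 1) (hrN : ¬ r ∣ N) (hrd : ¬ r ∣ d) {q : ℤ}
    (hq : (r : ℤ) ∣ (cyclotomic d ℤ).eval q) {b : Fin n → ℤ} (hb : ∃ j, ¬ (r : ℤ) ∣ b j)
    (hMb : ∀ j, (r : ℤ) ∣ M.mulVec b j - q * b j) :
    aeval M (cyclotomic d ℤ) = 0 := by
  set φ := Int.castRingHom (ZMod r)
  set M' := M.map φ with hM'
  set b' : Fin n → ZMod r := fun j => φ (b j) with hb'
  set q' : ZMod r := φ q with hq'
  have hbne : b' ≠ 0 := fun h => by
    obtain ⟨j, hj⟩ := hb
    exact hj ((ZMod.intCast_zmod_eq_zero_iff_dvd _ r).1 (congrFun h j))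
  have heig : M'.mulVec b' = q' • b' := by
    funext j
    rw [Pi.smul_apply, smul_eq_mul, hM', hb', show (M.map φ).mulVec (fun j => φ (b j)) j
      = φ (M.mulVec b j) from (RingHom.map_mulVec φ M b j).symm, hq', ← map_mul]
    exact sub_eq_zero.1 (by rw [← map_sub]; exact (ZMod.intCast_zmod_eq_zero_iff_dvd _ r).2 (hMb j))
  have hroot : (cyclotomic d (ZMod r)).IsRoot q' := by
    rw [IsRoot, ← map_cyclotomic d φ, eval_map, hq', eval₂_at_apply]
    exact (ZMod.intCast_zmod_eq_zero_iff_dvd _ r).2 hq
  haveI : NeZero (d : ZMod r) := ⟨fun h => hrd ((CharP.cast_eq_zero_iff (ZMod r) r d).1 h)⟩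
  have hprim := isRoot_cyclotomic_iff.1 hroot
  have hqN : q' ^ N = 1 := by
    have h1 := aeval_mulVec M' heig (X ^ N)
    rw [map_pow, aeval_X, eval_pow, eval_X, show M' ^ N = (M ^ N).map φ from
      (map_pow φ.mapMatrix M N).symm, hMN] at h1
    rw [show (1 : Matrix (Fin n) (Fin n) ℤ).map φ = 1 from map_one φ.mapMatrix, one_mulVec] at h1
    by_contra hne
    obtain ⟨j, hj⟩ := Function.ne_iff.1 hbne
    have h2 := congrFun h1 j
    rw [Pi.smul_apply, smul_eq_mul] at h2
    exact hne (mul_right_cancel₀ hj (by rw [← h2, one_mul]))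
  have hdN : d ∣ N := hprim.eq_orderOf ▸ orderOf_dvd_of_pow_eq_one hqN
  obtain ⟨g, hg⟩ : cyclotomic d ℤ ∣ X ^ N - 1 := by
    rw [← prod_cyclotomic_eq_X_pow_sub_one hN]
    exact Finset.dvd_prod_of_mem _ (Nat.mem_divisors.2 ⟨hdN, hN.ne'⟩)
  have hprod : aeval M (cyclotomic d ℤ) * aeval M g = 0 := by
    rw [← map_mul, ← hg, map_sub, map_pow, aeval_X, hMN, map_one, sub_self]
  set P := aeval M (cyclotomic d ℤ) with hP
  by_cases hdet : P.det = 0
  · -- the rational kernel is everything
    obtain ⟨v, hv0, hv⟩ := exists_mulVec_eq_zero_iff.2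
      (show (P.map (Int.castRingHom ℚ)).det = 0 by
        rw [← RingHom.mapMatrix_apply, ← RingHom.map_det, hdet, map_zero])
    set MQ := M.map (Int.castRingHom ℚ) with hMQ
    have hPQ : P.map (Int.castRingHom ℚ) = aeval MQ (cyclotomic d ℚ) := by
      rw [hP, hMQ, ← map_cyclotomic d (Int.castRingHom ℚ), ← algebraMap_int_eq, aeval_map_algebraMap,
        show (algebraMap ℤ ℚ : ℤ → ℚ) = Int.castRingHom ℚ from rfl]
      exact (aeval_algHom_apply (Int.castRingHom ℚ).mapMatrix.toIntAlgHom M (cyclotomic d ℤ)).symm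
    rw [hPQ] at hv
    have hirr := cyclotomic.irreducible_rat (n := d) (Nat.pos_of_ne_zero (by
      rintro rfl; exact hrd (dvd_zero r)))
    have hli : LinearIndependent ℚ fun j : Fin n => (MQ ^ (j : ℕ)).mulVec v := by
      rw [Fintype.linearIndependent_iff]
      intro c hc
      set f : ℚ[X] := ∑ j : Fin n, Polynomial.C (c j) * X ^ (j : ℕ) with hf
      have hfv : (aeval MQ f).mulVec v = 0 := by
        rw [hf, map_sum, Matrix.sum_mulVec, ← hc]
        refine Finset.sum_congr rfl fun j _ => ?_
        rw [map_mul, aeval_C, map_pow, aeval_X, ← Algebra.smul_def, smul_mulVec]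
      have hf0 : f = 0 := by
        by_contra hne
        have hdeg : f.natDegree < n := by
          rw [natDegree_lt_iff_degree_lt hne]
          refine lt_of_le_of_lt (degree_sum_le _ _) ?_
          exact (Finset.sup_lt_iff (WithBot.bot_lt_coe n)).2 fun j _ => (degree_C_mul_X_pow_le _ _).trans_lt (WithBot.coe_lt_coe.2 j.isLt)
        have hcop : IsCoprime (cyclotomic d ℚ) f := by
          refine (hirr.coprime_iff_not_dvd).2 fun h => ?_
          have := natDegree_le_of_dvd h hne
          rw [natDegree_cyclotomic, hd] at this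
          omega
        obtain ⟨u, w, huw⟩ := hcop
        have := congrArg (fun p => (aeval MQ p).mulVec v) huw
        simp only [map_add, map_mul, add_mulVec, ← mulVec_mulVec, hv, hfv, mulVec_zero, add_zero,
          map_one, one_mulVec] at this
        exact hv0 this.symm
      intro j
      have := congrArg (fun p => p.coeff (j : ℕ)) hf0
      simpa [hf, coeff_C_mul, Fin.val_inj] using this
    have hn : 0 < n := by
      by_contra h
      obtain rfl : n = 0 := by omega
      exact hv0 (Subsingleton.elim _ _)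
    haveI : Nonempty (Fin n) := ⟨⟨0, hn⟩⟩
    have hspan := hli.span_eq_top_of_card_eq_finrank (by simp)
    have hzero : aeval MQ (cyclotomic d ℚ) = 0 := by
      apply Matrix.toLin'.injective
      refine LinearMap.ext_on_range hspan fun j => ?_
      rw [map_zero, LinearMap.zero_apply, toLin'_apply, mulVec_mulVec,
        show aeval MQ (cyclotomic d ℚ) * MQ ^ (j : ℕ) = MQ ^ (j : ℕ) * aeval MQ (cyclotomic d ℚ) by
          rw [← aeval_X_pow (R := ℚ) MQ, ← map_mul, ← map_mul, mul_comm],
        ← mulVec_mulVec, hv, mulVec_zero]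
    rw [← hPQ] at hzero
    ext i j
    simpa using congrFun (congrFun hzero i) j
  · -- otherwise the cofactor kills `M`, contradicting separability
    exfalso
    have hg0 : aeval M g = 0 := by
      have := congrArg (fun x => P.adjugate * x) hprod
      simp only [← mul_assoc, adjugate_mul, mul_zero, smul_one_mul] at this
      exact (smul_eq_zero.1 this).resolve_left hdet
    set g' := g.map φ
    have hg' : aeval M' g' = 0 := by
      have h1 := aeval_algHom_apply φ.mapMatrix.toIntAlgHom M g
      rw [hg0, map_zero] at h1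
      show aeval M' (g.map φ) = 0
      rw [show φ = algebraMap ℤ (ZMod r) from (algebraMap_int_eq _).symm, aeval_map_algebraMap]
      exact h1
    have hgq : g'.eval q' = 0 := by
      have h1 := aeval_mulVec M' heig g'
      rw [hg', zero_mulVec] at h1
      exact (smul_eq_zero.1 h1.symm).resolve_right hbne
    have hfac : (X ^ N - 1 : (ZMod r)[X]) = cyclotomic d (ZMod r) * g' := by
      have := congrArg (Polynomial.map φ) hg
      rwa [Polynomial.map_sub, Polynomial.map_pow, map_X, Polynomial.map_one, Polynomial.map_mul,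
        map_cyclotomic] at this
    have hder := congrArg (fun p => (derivative p).eval q') hfac
    simp only [derivative_sub, derivative_one, sub_zero, derivative_X_pow, derivative_mul, eval_add,
      eval_mul, eval_C, eval_pow, eval_X, hgq, mul_zero, add_zero, hroot.eq_zero, zero_mul] at hder
    have hq0 : q' ≠ 0 := fun h => by
      rw [h, zero_pow hN.ne'] at hqN
      exact zero_ne_one hqN
    rcases mul_eq_zero.1 hder with h | h
    · exact hrN ((CharP.cast_eq_zero_iff (ZMod r) r N).1 h)
    · exact pow_ne_zero _ hq0 h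

/-- The orbit of a nonzero covector is a rational basis. -/
theorem orbit_det_ne_zero (M : Matrix (Fin n) (Fin n) ℤ) {d : ℕ} (hd : d.totient = n) (hd0 : 0 < d)
    (hM : aeval M (cyclotomic d ℤ) = 0) {c : Fin n → ℤ} (hc : c ≠ 0) :
    (Matrix.of fun j : Fin n => c ᵥ* M ^ (j : ℕ)).det ≠ 0 := by
  intro hdet
  obtain ⟨a, ha0, ha⟩ := exists_vecMul_eq_zero_iff.2 hdet
  set f : ℤ[X] := ∑ j : Fin n, Polynomial.C (a j) * X ^ (j : ℕ) with hf
  have hfne : f ≠ 0 := fun h => ha0 (funext fun j => by
    have := congrArg (fun p => p.coeff (j : ℕ)) h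
    simpa [hf, coeff_C_mul, Fin.val_inj] using this)
  have hcf : c ᵥ* aeval M f = 0 := by
    have hsum : c ᵥ* aeval M f = ∑ j : Fin n, a j • (c ᵥ* M ^ (j : ℕ)) := by
      rw [hf, map_sum, vecMul_sum]
      refine Finset.sum_congr rfl fun j _ => ?_
      rw [map_mul, aeval_C, map_pow, aeval_X, ← Algebra.smul_def, vecMul_smul]
    rw [hsum, ← ha, vecMul_eq_sum]
    rfl
  have hdeg : f.natDegree < n := by
    rw [natDegree_lt_iff_degree_lt hfne]
    refine lt_of_le_of_lt (degree_sum_le _ _) ?_
    exact (Finset.sup_lt_iff (WithBot.bot_lt_coe n)).2 fun j _ => (degree_C_mul_X_pow_le _ _).trans_lt (WithBot.coe_lt_coe.2 j.isLt)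
  have hinj : Function.Injective (Int.castRingHom ℚ) := Int.cast_injective
  have hcop : IsCoprime (cyclotomic d ℚ) (f.map (Int.castRingHom ℚ)) := by
    refine (cyclotomic.irreducible_rat hd0).coprime_iff_not_dvd.2 fun h => ?_
    have := natDegree_le_of_dvd h ((Polynomial.map_ne_zero_iff hinj).2 hfne)
    rw [natDegree_cyclotomic, hd, natDegree_map_eq_of_injective hinj] at this
    omega
  obtain ⟨u, w, huw⟩ := hcop
  set Φ := (Int.castRingHom ℚ).mapMatrix (m := Fin n)
  set cQ : Fin n → ℚ := fun i => (c i : ℚ)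
  have hmap : ∀ p : ℤ[X], aeval (Φ M) (p.map (Int.castRingHom ℚ)) = Φ (aeval M p) := fun p => by
    rw [← algebraMap_int_eq, aeval_map_algebraMap]
    exact aeval_algHom_apply Φ.toIntAlgHom M p
  have hcyc : aeval (Φ M) (cyclotomic d ℚ) = 0 := by
    rw [← map_cyclotomic d (Int.castRingHom ℚ), hmap, hM, map_zero]
  have hcQ : cQ ᵥ* aeval (Φ M) (f.map (Int.castRingHom ℚ)) = 0 := by
    funext i
    rw [hmap]
    have := (RingHom.map_vecMul (Int.castRingHom ℚ) (aeval M f) c i).symm
    rw [hcf] at this
    simpa [cQ, Φ, Function.comp_def] using this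
  have := congrArg (fun p => cQ ᵥ* aeval (Φ M) p) huw
  simp only [map_add, map_mul, hcyc, mul_zero, zero_add, map_one, vecMul_one] at this
  rw [show aeval (Φ M) w * aeval (Φ M) (f.map (Int.castRingHom ℚ))
    = aeval (Φ M) (f.map (Int.castRingHom ℚ)) * aeval (Φ M) w by
      rw [← map_mul, ← map_mul, mul_comm], ← vecMul_vecMul, hcQ, zero_vecMul] at this
  refine hc (funext fun i => ?_)
  have hi := congrFun this i
  simpa [cQ] using hi.symm

/-- The value of the characteristic polynomial. -/
theorem det_twist (M : Matrix (Fin n) (Fin n) ℤ) {d : ℕ} (hd : d.totient = n) (hd0 : 0 < d)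
    (hM : aeval M (cyclotomic d ℤ) = 0) (hn : 0 < n) (q : ℤ) :
    (q • (1 : Matrix (Fin n) (Fin n) ℤ) - M).det = (cyclotomic d ℤ).eval q := by
  set Φ := (Int.castRingHom ℚ).mapMatrix (m := Fin n)
  haveI : Nonempty (Fin n) := ⟨⟨0, hn⟩⟩
  have hcyc : aeval (Φ M) (cyclotomic d ℚ) = 0 := by
    rw [← map_cyclotomic d (Int.castRingHom ℚ), ← algebraMap_int_eq, aeval_map_algebraMap,
      show aeval (Φ M) (cyclotomic d ℤ) = Φ (aeval M (cyclotomic d ℤ)) from
        aeval_algHom_apply Φ.toIntAlgHom M _, hM, map_zero]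
  have hmin : cyclotomic d ℚ = minpoly ℚ (Φ M) :=
    minpoly.eq_of_irreducible_of_monic (cyclotomic.irreducible_rat hd0) hcyc (cyclotomic.monic d ℚ)
  have hchar : (Φ M).charpoly = cyclotomic d ℚ := by
    refine eq_of_monic_of_dvd_of_natDegree_le (cyclotomic.monic d ℚ) (charpoly_monic _) ?_ ?_
    · rw [hmin]; exact minpoly_dvd_charpoly _
    · rw [charpoly_natDegree_eq_dim, natDegree_cyclotomic, hd, Fintype.card_fin]
  have hcharZ : M.charpoly = cyclotomic d ℤ :=
    Polynomial.map_injective (Int.castRingHom ℚ) Int.cast_injective (by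
      rw [← charpoly_map, map_cyclotomic, ← hchar]; rfl)
  rw [← hcharZ, eval_charpoly]
  congr 1
  rw [Matrix.scalar_apply, ← Matrix.diagonal_one, ← Matrix.diagonal_smul]
  congr 2
  funext i
  simp

/-- A Gram determinant bound. -/
theorem gram_det_le (P : Matrix (Fin n) (Fin n) ℤ) {L : ℕ}
    (h : ∀ i, (P.transpose * P) i i ≤ L) : P.det ^ 2 ≤ (L : ℤ) ^ n := by
  set A : Matrix (Fin n) (Fin n) ℝ := P.map (Int.castRingHom ℝ) with hA
  set B := A.transpose * A with hB
  have hPSD : B.PosSemidef := by
    have := Matrix.posSemidef_conjTranspose_mul_self A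
    rwa [conjTranspose_eq_transpose_of_trivial] at this
  have hdet : B.det = ((P.det ^ 2 : ℤ) : ℝ) := by
    rw [hB, det_mul, det_transpose, hA, ← RingHom.mapMatrix_apply, ← RingHom.map_det, ← sq]
    simp
  have htr : B.trace ≤ n * L := by
    have hdiag : ∀ i, B i i = (((P.transpose * P) i i : ℤ) : ℝ) := fun i => by
      rw [hB, hA, Matrix.mul_apply, Matrix.mul_apply]
      push_cast
      rfl
    calc B.trace = ∑ i, (((P.transpose * P) i i : ℤ) : ℝ) := Finset.sum_congr rfl fun i _ => hdiag i
      _ ≤ ∑ _i : Fin n, (L : ℝ) := Finset.sum_le_sum fun i _ => by exact_mod_cast h i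
      _ = n * L := by simp
  have hev := hPSD.eigenvalues_nonneg
  have h1 := hPSD.1.det_eq_prod_eigenvalues
  have h2 := hPSD.1.trace_eq_sum_eigenvalues
  simp only [RCLike.ofReal_real_eq_id, id_eq] at h1 h2
  rcases Nat.eq_zero_or_pos L with rfl | hL
  · have hz : ∀ i, hPSD.1.eigenvalues i = 0 := by
      intro i
      refine le_antisymm ?_ (hev i)
      have := Finset.single_le_sum (fun j _ => hev j) (Finset.mem_univ i)
      rw [← h2] at this
      have h3 : B.trace ≤ 0 := by simpa using htr
      linarith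
    rcases Nat.eq_zero_or_pos n with rfl | hn
    · simp
    · have : B.det = 0 := by
        rw [h1]; exact Finset.prod_eq_zero (Finset.mem_univ ⟨0, hn⟩) (hz _)
      rw [hdet] at this
      have h0 : P.det ^ 2 = 0 := by exact_mod_cast this
      rw [h0]; positivity
  have hLr : (0 : ℝ) < L := by exact_mod_cast hL
  have hexp : ∏ i, hPSD.1.eigenvalues i / L ≤ 1 := by
    calc ∏ i, hPSD.1.eigenvalues i / L ≤ ∏ i, Real.exp (hPSD.1.eigenvalues i / L - 1) :=
          Finset.prod_le_prod (fun i _ => div_nonneg (hev i) hLr.le) fun i _ => by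
            have := Real.add_one_le_exp (hPSD.1.eigenvalues i / L - 1)
            linarith
      _ = Real.exp (∑ i, (hPSD.1.eigenvalues i / L - 1)) := (Real.exp_sum _ _).symm
      _ ≤ Real.exp 0 := Real.exp_le_exp.2 (by
          rw [Finset.sum_sub_distrib, ← Finset.sum_div, ← h2, Finset.sum_const, Finset.card_univ,
            Fintype.card_fin, nsmul_one, sub_nonpos, div_le_iff₀ hLr]
          exact htr)
      _ = 1 := Real.exp_zero
  rw [Finset.prod_div_distrib, ← h1, hdet, Finset.prod_const, Finset.card_univ, Fintype.card_fin,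
    div_le_one (pow_pos hLr n)] at hexp
  exact_mod_cast hexp

/-- The index of the range of an integer matrix. -/
theorem index_range (B : Matrix (Fin n) (Fin n) ℤ) (hB : B.det ≠ 0) :
    B.mulVecLin.range.toAddSubgroup.index = B.det.natAbs := by
  have hinj : Function.Injective B.mulVecLin := by
    intro x y h
    exact sub_eq_zero.1 (eq_zero_of_mulVec_eq_zero hB (by
      show B.mulVecLin (x - y) = 0
      rw [map_sub, h, sub_self]))
  have h := Submodule.natAbs_det_equiv B.mulVecLin.range
    (LinearEquiv.ofInjective B.mulVecLin hinj)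
  rw [show B.mulVecLin.range.toAddSubgroup.index
    = Nat.card ((Fin n → ℤ) ⧸ B.mulVecLin.range) from rfl, ← h]
  congr 1
  rw [← LinearMap.det_toLin' B]
  congr 1

end Cfsg.Agent.Chevalley.TwTorus
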