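import Cfsg.Agent.Chevalley.TwTorus.Root

/-!
Regular torus elements: trivial stabiliser in the Weyl group, and what conjugates two of them.
-/
set_option autoImplicit false
set_option linter.style.haveILetI false
set_option linter.unusedSectionVars false

namespace Cfsg.Agent.Chevalley.TwTorus

open Cfsg.Lie Cfsg.Agent.H37 Cfsg.Agent.H37.RootSys Cfsg.Agent.Chevalley.Weights Matrix
open Cfsg.Agent.Chevalley.Hecke (Up)

variable {D : ChevalleyDatum} {F : Type*} [Field F] [Finite F] (Q : H37.Chev.Data D F)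
variable (hcard : Nat.card (D.diagonalSubgroup F) = (Nat.card F - 1) ^ D.rank)

theorem pr_neg {s : ℕ} (hs : s < D.nroots) (a : Fin Q.X.n → ℤ) :
    pr Q.X.n D (D.nroots - 1 - s) a = - pr Q.X.n D s a := by
  rw [pr_cartan Q (by omega), pr_cartan Q hs, ← Finset.sum_neg_distrib]
  refine Finset.sum_congr rfl fun i _ => ?_
  rw [← Q.K.neg_eq s hs, Q.K.cf_neg s hs i (Q.rank_eq.symm ▸ i.isLt), neg_mul]

include hcard in
/-- A regular element modulo a prime is moved by every nontrivial Weyl group element. -/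
theorem stab_eq_one (hA : (cartanT Q).det ≠ 0) {r : ℕ} [hr : Fact r.Prime]
    (hrW : ¬ r ∣ Nat.card Q.X.M.Group) {b : Fin Q.X.n → ℤ}
    (hreg : ∀ s, s < D.nroots → ¬ (r : ℤ) ∣ pr Q.X.n D s b) {w : Q.X.M.Group}
    (hw : ∀ j, (r : ℤ) ∣ (wmat Q w).mulVec b j - b j) : w = 1 := by
  classical
  haveI := Q.X.good.finite
  haveI : Fintype Q.X.M.Group := Fintype.ofFinite _
  set R := richOf Q hcard
  let φ := Int.castRingHom (ZMod r)
  set b' : Fin Q.X.n → ZMod r := fun j => (b j : ZMod r) with hb'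
  let act' : Q.X.M.Group → Prop := fun u => ((wmat Q u).map φ).mulVec b' = b'
  have hmem : ∀ u, (∀ j, (r : ℤ) ∣ (wmat Q u).mulVec b j - b j) ↔ act' u := fun u => by
    constructor
    · intro h; funext j
      rw [show ((wmat Q u).map φ).mulVec b' j = φ ((wmat Q u).mulVec b j) from
        (RingHom.map_mulVec φ _ b j).symm]
      exact sub_eq_zero.1 (by
        show φ _ - φ (b j) = 0
        rw [← map_sub]; exact (ZMod.intCast_zmod_eq_zero_iff_dvd _ r).2 (h j))
    · intro h j
      refine (ZMod.intCast_zmod_eq_zero_iff_dvd _ r).1 ?_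
      show φ _ = 0
      rw [map_sub, RingHom.map_mulVec φ _ b j]
      exact sub_eq_zero.2 (congrFun h j)
  let St : Submonoid Q.X.M.Group :=
    { carrier := {u | act' u}
      one_mem' := by
        show ((wmat Q 1).map φ).mulVec b' = b'
        rw [wmat_one Q hA, show (1 : Matrix (Fin Q.X.n) (Fin Q.X.n) ℤ).map φ = 1 from
          map_one φ.mapMatrix, one_mulVec]
      mul_mem' := fun {u v} hu hv => by
        show ((wmat Q (u * v)).map φ).mulVec b' = b'
        rw [wmat_mul Q hA, show (wmat Q u * wmat Q v).map φ = (wmat Q u).map φ * (wmat Q v).map φ from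
          map_mul φ.mapMatrix _ _, ← mulVec_mulVec, hv, hu] }
  let Sg : Subgroup Q.X.M.Group :=
    { St with
      inv_mem' := fun {u} hu => by
        have h1 : u⁻¹ ∈ Submonoid.powers u :=
          (isOfFinOrder_of_finite u).mem_powers_iff_mem_zpowers.2
            (Subgroup.inv_mem _ (Subgroup.mem_zpowers u))
        exact (Submonoid.powers_le.2 hu : Submonoid.powers u ≤ St) h1 }
  have hwS : w ∈ Sg := (hmem w).1 hw
  set v : Fin Q.X.n → ℤ := ∑ u : Sg, (wmat Q (u : Q.X.M.Group)).mulVec b with hv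
  have hfix : ∀ u ∈ Sg, (wmat Q u).mulVec v = v := fun u hu => by
    rw [hv, Matrix.mulVec_sum]
    refine Fintype.sum_equiv (Equiv.mulLeft (⟨u, hu⟩ : Sg)) _ _ fun x => ?_
    rw [mulVec_mulVec, ← wmat_mul Q hA]
    rfl
  have hne : ∀ s, s < D.nroots → pr Q.X.n D s v ≠ 0 := by
    intro s hs h0
    have hcast : ∀ a : Fin Q.X.n → ℤ, ((pr Q.X.n D s a : ℤ) : ZMod r)
        = ∑ m, (a m : ZMod r) * (D.cartan m s : ZMod r) := fun a => by
      simp [pr]
    have hvb : ∀ j, ((v j : ℤ) : ZMod r) = (Nat.card Sg : ZMod r) * b' j := by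
      intro j
      rw [hv, Finset.sum_apply, Int.cast_sum, Finset.sum_congr rfl (g := fun _ => b' j)
        (fun u _ => ?_), Finset.sum_const, Finset.card_univ, nsmul_eq_mul, Nat.card_eq_fintype_card]
      rw [show (((wmat Q (u : Q.X.M.Group)).mulVec b j : ℤ) : ZMod r)
        = φ ((wmat Q (u : Q.X.M.Group)).mulVec b j) from rfl, RingHom.map_mulVec φ _ b j]
      exact congrFun u.2 j
    have h1 := hcast v
    rw [h0, Int.cast_zero] at h1
    have h2 : (Nat.card Sg : ZMod r) * ((pr Q.X.n D s b : ℤ) : ZMod r) = 0 := by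
      rw [hcast b, h1, Finset.mul_sum]
      exact Finset.sum_congr rfl fun m _ => by rw [hvb, mul_assoc]
    rcases mul_eq_zero.1 h2 with h3 | h3
    · exact hrW (((CharP.cast_eq_zero_iff (ZMod r) r _).1 h3).trans Sg.card_subgroup_dvd_card)
    · exact hreg s hs ((ZMod.intCast_zmod_eq_zero_iff_dvd _ r).1 h3)
  let f : ℕ → ℤ := fun s => pr Q.X.n D s v
  have hfw : ∀ s, s < D.nroots → f (act Q.X.good w s) = f s := fun s hs => by
    show pr Q.X.n D _ v = pr Q.X.n D s v
    conv_rhs => rw [← hfix w⁻¹ (inv_mem hwS), pr_wmat Q _ hs, inv_inv]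
  let P : Q.X.M.Group → Finset ℕ := fun y => (posSet D).filter fun s => f (act Q.X.good y s) < 0
  obtain ⟨y, hy⟩ := Finite.exists_min fun y => (P y).card
  have hev := Q.X.good.even
  have hsimple : ∀ i : Fin Q.X.n, 0 < f (act Q.X.good y (D.simple i)) := by
    intro i
    rcases lt_trichotomy (f (act Q.X.good y (D.simple i))) 0 with h | h | h
    · exfalso
      have hmemP : D.simple i ∈ P y :=
        Finset.mem_filter.2 ⟨mem_posSet.2 ⟨simple_lt Q.X.good i, simple_pos Q.X.good i⟩, h⟩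
      have hle : (P (y * Q.X.M.simple i)).card ≤ ((P y).erase (D.simple i)).card := by
        refine Finset.card_le_card_of_injOn (Q.X.C.sigma i) (fun s hs => ?_) (fun s hs s' hs' e => ?_)
        · obtain ⟨hs1, hs2⟩ := Finset.mem_filter.1 hs
          obtain ⟨hs3, hs4⟩ := mem_posSet.1 hs1
          rw [act_mul _ _ hs3, act_simple i hs3] at hs2
          have hne' : s ≠ D.simple i := fun e => by
            rw [e, sigma_simple Q.X.good i, act_neg y (simple_lt Q.X.good i)] at hs2
            have h2 := pr_neg Q (act_lt (hC := Q.X.good) y (simple_lt Q.X.good i)) v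
            simp only [f] at hs2 h
            omega
          have hp := sigma_pos Q.X.good i hs3 hs4 hne'
          refine Finset.mem_erase.2 ⟨fun e => ?_,
            Finset.mem_filter.2 ⟨mem_posSet.2 ⟨sigma_lt Q.X.good i hs3, hp⟩, hs2⟩⟩
          have e' := congrArg (Q.X.C.sigma i) e
          rw [sigma_sigma Q.X.good i hs3] at e'
          rw [e'] at hs4
          have := sigma_simple_neg Q.X.good i
          omega
        · have hs1 := (mem_posSet.1 (Finset.mem_filter.1 hs).1).1
          have hs2 := (mem_posSet.1 (Finset.mem_filter.1 hs').1).1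
          rw [← sigma_sigma Q.X.good i hs1, e, sigma_sigma Q.X.good i hs2]
      rw [Finset.card_erase_of_mem hmemP] at hle
      have := Finset.card_pos.2 ⟨_, hmemP⟩
      have h3 : (P y).card ≤ (P (y * Q.X.M.simple i)).card := hy _
      omega
    · exact absurd h (hne _ (act_lt y (simple_lt Q.X.good i)))
    · exact h
  have hpos : ∀ s, s < D.nroots → D.nroots / 2 ≤ s → 0 < f (act Q.X.good y s) := by
    intro s
    induction s using Nat.strong_induction_on with
    | _ s ih =>
      intro hs hp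
      rcases R.climb s hs hp with ⟨i, rfl⟩ | ⟨i, hlt, hp', hcf⟩
      · exact hsimple i
      · have hs' := sigma_lt Q.X.good i hs
        have hT := R.T_up i _ hs' (by rw [sigma_sigma Q.X.good i hs]; exact hcf)
        rw [sigma_sigma Q.X.good i hs] at hT
        have h2 := Q.sys.T_hom y _ _ _ hs' (simple_lt Q.X.good i) hs hT
        rw [← act_eq _ hs', ← act_eq _ (simple_lt Q.X.good i), ← act_eq _ hs] at h2
        obtain ⟨a, c, ha, hc, e⟩ := R.T_cf _ _ _ (act_lt y hs') (act_lt y (simple_lt Q.X.good i))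
          (act_lt y hs) h2
        have hsum : f (act Q.X.good y s) = a * f (act Q.X.good y (Q.X.C.sigma i s))
            + c * f (act Q.X.good y (D.simple i)) := by
          simp only [f]
          rw [pr_cartan Q (act_lt y hs), pr_cartan Q (act_lt y hs'),
            pr_cartan Q (act_lt y (simple_lt Q.X.good i)), Finset.mul_sum, Finset.mul_sum,
            ← Finset.sum_add_distrib]
          refine Finset.sum_congr rfl fun m _ => ?_
          have em : Q.K.cf (act Q.X.good y s) m = a * Q.K.cf (act Q.X.good y (Q.X.C.sigma i s)) m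
            + c * Q.K.cf (act Q.X.good y (D.simple i)) m := e m
          rw [em]; ring
        rw [hsum]
        have h1 := ih _ hlt hs' hp'
        have h3 := hsimple i
        positivity
  set z := y⁻¹ * w * y with hz
  have hflip : Sys.flip Q.X.good z = ∅ := by
    refine Finset.eq_empty_of_forall_notMem fun s hs => ?_
    obtain ⟨h1, h2, h3⟩ := Sys.mem_flip.1 hs
    rw [← act_eq _ h1] at h3
    have hg : f (act Q.X.good y (act Q.X.good z s)) = f (act Q.X.good y s) := by
      rw [← act_mul _ _ h1, show y * z = w * y by rw [hz]; group, act_mul _ _ h1,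
        hfw _ (act_lt y h1)]
    have hzlt := act_lt (hC := Q.X.good) z h1
    have h4 := hpos (D.nroots - 1 - act Q.X.good z s) (by omega) (by omega)
    rw [act_neg y hzlt] at h4
    have h5 := pr_neg Q (act_lt (hC := Q.X.good) y hzlt) v
    have h6 := hpos s h1 h2
    simp only [f] at h4 hg h6
    omega
  have hz1 : z = 1 := Q.X.good.eq_one_of_inv_eq_zero (by rw [← Sys.card_flip, hflip, Finset.card_empty])
  have hwy : w = y * z * y⁻¹ := by rw [hz]; group
  rw [hwy, hz1, mul_one, mul_inv_cancel]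

/-- A torus element moving every root element commutes with no nontrivial unipotent element. -/
theorem comm_U {t : ↥(D.group F)}
    (hreg : ∀ s, s < D.nroots → ∀ u : F, ∀ t' : F, t * Q.sys.x s u * t⁻¹ = Q.sys.x s t' → t' = u → u = 0)
    (ht : t ∈ Q.sys.H) {u : ↥(D.group F)} (hu : u ∈ Q.sys.U) (hc : t * u * t⁻¹ = u) : u = 1 := by
  have hS : Q.sys.toUnip.Closed (posSet D) := Q.sys.P_eq ▸ Q.sys.toUnip.closed_P
  suffices ∀ m k, (posSet D).sup id < k + m → ∀ g ∈ XS Q.sys.x {r | r ∈ posSet D ∧ k ≤ r},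
      t * g * t⁻¹ = g → g = 1 by
    exact this ((posSet D).sup id + 1) 0 (by omega) u
      (XS_mono (S' := {r | r ∈ posSet D ∧ 0 ≤ r}) (fun r hr => ⟨hr, Nat.zero_le r⟩) hu) hc
  intro m
  induction m with
  | zero =>
    intro k hk g hg _
    have : {r | r ∈ posSet D ∧ k ≤ r} = ∅ := by
      refine Set.eq_empty_iff_forall_notMem.2 fun r hr => ?_
      have := Finset.le_sup (f := id) hr.1
      simp only [id_eq] at this
      have := hr.2
      omega
    rwa [this, XS_empty, Subgroup.mem_bot] at hg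
  | succ m ih =>
    intro k hk g hg hfix
    by_cases hkS : k ∈ posSet D
    · obtain ⟨a, p, hp, rfl⟩ := Q.sys.toUnip.exists_head hS hkS hg
      have hklt := (mem_posSet.1 hkS).1
      obtain ⟨a', ea⟩ := Q.sys.h_conj t ht k hklt a
      have hp' : t * p * t⁻¹ ∈ XS Q.sys.x {r | r ∈ posSet D ∧ k < r} := conj_mem_XS (fun r hr c => by
        obtain ⟨c', ec⟩ := Q.sys.h_conj t ht r (mem_posSet.1 hr.1).1 c
        rw [ec]; exact x_mem_XS hr c') hp
      have e : Q.sys.x k a' * (t * p * t⁻¹) = Q.sys.x k a * p := by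
        rw [← ea]
        calc _ = t * (Q.sys.x k a * p) * t⁻¹ := by group
          _ = _ := hfix
      obtain ⟨e1, e2⟩ := Q.sys.toUnip.head_unique hS hkS hp' hp e
      obtain rfl : a = 0 := hreg k hklt a a' ea e1
      rw [ih (k + 1) (by omega) p hp e2, Q.sys.x_zero' hklt, mul_one]
    · rw [Unip.tail_of_not_mem hkS] at hg
      exact ih (k + 1) (by omega) g hg hfix

/-- Elements carrying one regular element to another are monomial. -/
theorem conj_regular {s t g : ↥(D.group F)} (hs : s ∈ Q.sys.H) (ht : t ∈ Q.sys.H)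
    (hregs : ∀ r, r < D.nroots → ∀ u : F, ∀ t' : F, s * Q.sys.x r u * s⁻¹ = Q.sys.x r t' → t' = u → u = 0)
    (hregt : ∀ r, r < D.nroots → ∀ u : F, ∀ t' : F, t * Q.sys.x r u * t⁻¹ = Q.sys.x r t' → t' = u → u = 0)
    (hg : t * g = g * s) (R : Rich Q.sys) :
    ∃ h ∈ Q.sys.H, ∃ w, g = h * Q.sys.rep w ∧ Q.sys.rep w * s * (Q.sys.rep w)⁻¹ = t := by
  obtain ⟨u, hu, h, hh, w, v, hv, e⟩ := Q.amb.exists_eq g
  change u ∈ Q.sys.U at hu
  change h ∈ Q.sys.H at hh
  change v ∈ Q.sys.Uw w at hv
  have e0 : g = u * h * Q.sys.rep w * v := e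
  subst e0
  clear e
  have hv' : s⁻¹ * v * s ∈ Q.sys.Uw w := by
    have := conj_mem_XS (a := s⁻¹) (fun r hr c => by
      obtain ⟨c', ec⟩ := Q.sys.h_conj _ (inv_mem hs) r (Sys.mem_flip.1 hr).1 c
      rw [ec]; exact x_mem_XS (S := (↑(Sys.flip Q.X.good w) : Set ℕ)) hr c') hv
    rwa [inv_inv] at this
  have heq : (t * u * t⁻¹) * (t * h * (Q.sys.rep w * s * (Q.sys.rep w)⁻¹)⁻¹) * Q.sys.rep w
      * (s * v * s⁻¹) = u * h * Q.sys.rep w * v := by
    calc _ = t * (u * h * Q.sys.rep w * v) * s⁻¹ := by group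
      _ = _ := by rw [hg, mul_inv_cancel_right]
  have hv'' : s * v * s⁻¹ ∈ Q.sys.Uw w := conj_mem_XS (fun r hr c => by
      obtain ⟨c', ec⟩ := Q.sys.h_conj _ hs r (Sys.mem_flip.1 hr).1 c
      rw [ec]; exact x_mem_XS (S := (↑(Sys.flip Q.X.good w) : Set ℕ)) hr c') hv
  obtain ⟨-, e1, e2, e3⟩ := Q.amb.unique (w := w) (w' := w) (Q.sys.H_conj_U ht hu) hu
    (mul_mem (mul_mem ht hh) (inv_mem (Q.sys.rep_conj_H w hs))) hh hv'' hv heq
  obtain rfl : u = 1 := comm_U Q hregt ht hu e1
  obtain rfl : v = 1 := comm_U Q hregs hs (Q.sys.Uw_le w hv) e3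
  refine ⟨h, hh, w, by rw [one_mul, mul_one], ?_⟩
  rw [R.H_comm ht hh, mul_assoc] at e2
  exact (mul_inv_eq_one.1 (mul_eq_left.1 e2)).symm

/-- Conjugate elements of the torus are conjugate under the Weyl group. -/
theorem conj_weyl {s t g : ↥(D.group F)} (hs : s ∈ Q.sys.H) (ht : t ∈ Q.sys.H)
    (hg : t * g = g * s) (R : Rich Q.sys) :
    ∃ w, Q.sys.rep w * s * (Q.sys.rep w)⁻¹ = t := by
  obtain ⟨u, hu, h, hh, w, v, hv, e⟩ := Q.amb.exists_eq g
  change u ∈ Q.sys.U at hu
  change h ∈ Q.sys.H at hh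
  change v ∈ Q.sys.Uw w at hv
  have e0 : g = u * h * Q.sys.rep w * v := e
  subst e0
  clear e
  have heq : (t * u * t⁻¹) * (t * h * (Q.sys.rep w * s * (Q.sys.rep w)⁻¹)⁻¹) * Q.sys.rep w
      * (s * v * s⁻¹) = u * h * Q.sys.rep w * v := by
    calc _ = t * (u * h * Q.sys.rep w * v) * s⁻¹ := by group
      _ = _ := by rw [hg, mul_inv_cancel_right]
  have hv'' : s * v * s⁻¹ ∈ Q.sys.Uw w := conj_mem_XS (fun r hr c => by
      obtain ⟨c', ec⟩ := Q.sys.h_conj _ hs r (Sys.mem_flip.1 hr).1 c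
      rw [ec]; exact x_mem_XS (S := (↑(Sys.flip Q.X.good w) : Set ℕ)) hr c') hv
  obtain ⟨-, -, e2, -⟩ := Q.amb.unique (w := w) (w' := w) (Q.sys.H_conj_U ht hu) hu
    (mul_mem (mul_mem ht hh) (inv_mem (Q.sys.rep_conj_H w hs))) hh hv'' hv heq
  refine ⟨w, ?_⟩
  rw [R.H_comm ht hh, mul_assoc] at e2
  exact (mul_inv_eq_one.1 (mul_eq_left.1 e2)).symm

end Cfsg.Agent.Chevalley.TwTorus
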