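import Cfsg.Agent.Chevalley.TwTorus.Field
import Cfsg.Agent.Chevalley.TwTorus.Regular
import Cfsg.Agent.H37.Chev.Result

/-!
A self-centralising cyclic subgroup of a Chevalley group over a finite field of the order of a
cyclotomic value of full degree.
-/
set_option autoImplicit false
set_option linter.style.haveILetI false
set_option linter.unusedSectionVars false
set_option maxHeartbeats 800000

namespace Cfsg.Agent.Chevalley.TwTorus

open Cfsg.Lie Cfsg.Agent.H37 Cfsg.Agent.H37.RootSys Cfsg.Agent.Chevalley.Weights Matrix Polynomial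

/-- An abelian group with at most `l` solutions of `z ^ l = 1` for all primes `l` is cyclic. -/
theorem isCyclic_of_prime_torsion {A : Type*} [CommGroup A] [Finite A]
    (h : ∀ l : ℕ, l.Prime → Nat.card {z : A // z ^ l = 1} ≤ l) : IsCyclic A := by
  classical
  haveI : Fintype A := Fintype.ofFinite A
  refine isCyclic_of_card_pow_eq_one_le fun k hk => ?_
  suffices ∀ k : ℕ, 0 < k → Nat.card {z : A // z ^ k = 1} ≤ k by
    have h1 := this k hk
    rwa [Nat.card_eq_fintype_card, Fintype.card_subtype] at h1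
  clear hk k
  intro k
  induction k using Nat.strong_induction_on with
  | _ k ih =>
    intro hk
    by_cases hk1 : k = 1
    · subst hk1
      haveI : Subsingleton {z : A // z ^ 1 = 1} := ⟨fun a b => Subtype.ext
        ((pow_one a.1).symm.trans (a.2.trans (b.2.symm.trans (pow_one b.1))))⟩
      exact Finite.card_le_one_iff_subsingleton.2 inferInstance
    obtain ⟨l, hl, j, rfl⟩ := Nat.exists_prime_and_dvd hk1
    have hj : 0 < j := Nat.pos_of_mul_pos_left hk
    have hjlt : j < l * j := (Nat.lt_mul_iff_one_lt_left hj).2 hl.one_lt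
    let K1 : Subgroup A := (powMonoidHom (α := A) l).ker
    let K2 : Subgroup A := (powMonoidHom (α := A) (l * j)).ker
    let f : K2 →* A := (powMonoidHom (α := A) l).comp K2.subtype
    have hker : Nat.card f.ker ≤ l := by
      refine le_trans ?_ (h l hl)
      exact Nat.card_le_card_of_injective (fun z => ⟨((z : K2) : A), z.2⟩)
        (fun a b e => Subtype.ext (Subtype.ext (congrArg Subtype.val e :)))
    have hrange : Nat.card f.range ≤ j := by
      refine le_trans ?_ (ih j hjlt hj)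
      refine Nat.card_le_card_of_injective (fun z => ⟨(z : A), ?_⟩)
        (fun a b e => Subtype.ext (congrArg Subtype.val e :))
      obtain ⟨y, hy⟩ := z.2
      rw [← hy]
      show ((y : A) ^ l) ^ j = 1
      rw [← pow_mul]
      exact y.2
    calc Nat.card {z : A // z ^ (l * j) = 1} = Nat.card K2 :=
          Nat.card_congr (Equiv.subtypeEquivRight fun z => Iff.rfl)
      _ = Nat.card f.ker * Nat.card f.range := by
          rw [← Subgroup.index_ker f, mul_comm, Subgroup.index_mul_card]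
      _ ≤ l * j := Nat.mul_le_mul hker hrange

theorem geom_prod_cast {r Q : ℕ} (hQ : (Q : ZMod r) = 1) (degs : List ℕ) :
    (((degs.map fun e => ∑ i ∈ Finset.range e, Q ^ i).prod : ℕ) : ZMod r) = (degs.prod : ℕ) := by
  induction degs with
  | nil => simp
  | cons e l ih =>
    rw [List.map_cons, List.prod_cons, List.prod_cons, Nat.cast_mul, Nat.cast_mul, ih]
    congr 1
    simp [hQ]

theorem pr_sub (n : ℕ) (D : ChevalleyDatum) (s : ℕ) (a b : Fin n → ℤ) :
    pr n D s (a - b) = pr n D s a - pr n D s b := by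
  simp only [pr, Pi.sub_apply, sub_mul, Finset.sum_sub_distrib]

theorem pr_smul (n : ℕ) (D : ChevalleyDatum) (s : ℕ) (c : ℤ) (a : Fin n → ℤ) :
    pr n D s (c • a) = c * pr n D s a := by
  simp only [pr, Pi.smul_apply, smul_eq_mul, Finset.mul_sum, mul_assoc]

theorem dvd_mulVec {n : ℕ} (A : Matrix (Fin n) (Fin n) ℤ) {m : ℤ} {v : Fin n → ℤ}
    (h : ∀ j, m ∣ v j) (i : Fin n) : m ∣ A.mulVec v i :=
  show m ∣ ∑ j, A i j * v j from Finset.dvd_sum fun j _ => dvd_mul_of_dvd_right (h j) _

theorem dvd_pr {n : ℕ} (D : ChevalleyDatum) (s : ℕ) {m : ℤ} {v : Fin n → ℤ}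
    (h : ∀ j, m ∣ v j) : m ∣ pr n D s v :=
  Finset.dvd_sum fun j _ => dvd_mul_of_dvd_left (h j) _

section RootBound

variable {D : ChevalleyDatum} {E : Type*} [Field E] [Finite E] (Q : Chev.Data D E)
  (hH : Nat.card (D.diagonalSubgroup E) = (Nat.card E - 1) ^ D.rank)

include hH in
/-- A covector orbit of a root has a small determinant. -/
theorem root_bound (hA : (cartanT Q).det.natAbs = 1) {d : ℕ} (hd : d.totient = Q.X.n) (hd0 : 0 < d)
    (w : Q.X.M.Group) (hM : aeval (wmat Q w⁻¹) (cyclotomic d ℤ) = 0)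
    (Gr P : Matrix (Fin Q.X.n) (Fin Q.X.n) ℤ) {c L Bd : ℕ} (hc : 0 < c)
    (hgram : (c : ℤ) • Gr = P.transpose * P) (hGr : 0 < Gr.det.natAbs)
    (hL : ∀ s, s < D.nroots → dotProduct (fun i : Fin Q.X.n => Q.K.cf s i)
      (Gr.mulVec fun i : Fin Q.X.n => Q.K.cf s i) ≤ L)
    (hBd : (L : ℤ) ^ Q.X.n ≤ Gr.det.natAbs * (Bd : ℤ) ^ 2)
    {s : ℕ} (hs : s < D.nroots) :
    ∃ D0 : ℕ, 0 < D0 ∧ D0 ≤ Bd ∧ ∀ (m q : ℤ) (a : Fin Q.X.n → ℤ), m ∣ pr Q.X.n D s a →
      (∀ j, m ∣ q * a j - (wmat Q w⁻¹).mulVec a j) → ∀ j, m ∣ (D0 : ℤ) * a j := by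
  have hA0 : (cartanT Q).det ≠ 0 := fun h => by rw [h] at hA; simp at hA
  set M := wmat Q w⁻¹ with hMdef
  let Lcf : Matrix (Fin Q.X.n) (Fin Q.X.n) ℤ :=
    Matrix.of fun j i => Q.K.cf (act Q.X.good (w ^ (j : ℕ)) s) i
  let cv : Fin Q.X.n → ℤ := fun m => D.cartan m s
  have hpr : ∀ j : Fin Q.X.n, ∀ a, pr Q.X.n D (act Q.X.good (w ^ (j : ℕ)) s) a
      = pr Q.X.n D s ((M ^ (j : ℕ)).mulVec a) := fun j a => by
    rw [hMdef, pr_wmat_pow Q hA0 _ _ hs, inv_pow, inv_inv]
  have hrow : (Matrix.of fun j : Fin Q.X.n => cv ᵥ* M ^ (j : ℕ)) = Lcf * cartanT Q := by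
    ext j m
    have h := hpr j (Pi.single m 1)
    rw [pr_cartan Q (act_lt _ hs)] at h
    simp only [pr, Pi.single_apply, ite_mul, one_mul, zero_mul, Finset.sum_ite_eq',
      Finset.mem_univ, if_true, Matrix.mulVec_single, MulOpposite.op_one, one_smul] at h
    rw [Matrix.of_apply, Matrix.mul_apply]
    simp only [Lcf, cartanT, Matrix.of_apply]
    rw [h]
    simp only [Matrix.vecMul, dotProduct, cv, Matrix.col_apply]
    exact Finset.sum_congr rfl fun i _ => mul_comm _ _
  have hcv : cv ≠ 0 := by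
    intro h0
    have hcf0 : (fun i : Fin Q.X.n => Q.K.cf s i) = 0 := by
      refine eq_zero_of_vecMul_eq_zero hA0 (funext fun m => ?_)
      have h1 := pr_cartan Q hs (Pi.single m 1)
      simp only [pr, Pi.single_apply, ite_mul, one_mul, zero_mul, Finset.sum_ite_eq',
        Finset.mem_univ, if_true] at h1
      have h2 : cv m = 0 := congrFun h0 m
      rw [show cv m = D.cartan m s from rfl, h1] at h2
      exact h2
    set R := richOf Q hH
    have hev := Q.X.good.even
    rcases Nat.lt_or_ge s (D.nroots / 2) with hn | hn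
    · obtain ⟨i, hi⟩ := R.cf_pos (D.nroots - 1 - s) (by omega) (by omega)
      rw [R.cf_neg s hs i] at hi
      have : R.cf s i = 0 := congrFun hcf0 i
      omega
    · obtain ⟨i, hi⟩ := R.cf_pos s hs hn
      have : R.cf s i = 0 := congrFun hcf0 i
      omega
  have hdet := orbit_det_ne_zero M hd hd0 hM hcv
  rw [hrow, det_mul] at hdet
  have hLdet : Lcf.det ≠ 0 := fun h => hdet (by rw [h, zero_mul])
  refine ⟨Lcf.det.natAbs, Int.natAbs_pos.2 hLdet, ?_, fun m q a hma hmB j => ?_⟩
  · have hb := gram_det_le (P * Lcf.transpose) (L := c * L) fun i => by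
      rw [transpose_mul, transpose_transpose, Matrix.mul_assoc, ← Matrix.mul_assoc P.transpose,
        ← hgram]
      have h1 := hL (act Q.X.good (w ^ (i : ℕ)) s) (act_lt _ hs)
      have h2 : (Lcf * ((c : ℤ) • Gr * Lcf.transpose)) i i = (c : ℤ) *
          dotProduct (fun l : Fin Q.X.n => Q.K.cf (act Q.X.good (w ^ (i : ℕ)) s) l)
            (Gr.mulVec fun l : Fin Q.X.n => Q.K.cf (act Q.X.good (w ^ (i : ℕ)) s) l) := by
        rw [Matrix.smul_mul, Matrix.mul_smul, Matrix.smul_apply, smul_eq_mul]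
        rfl
      rw [h2]
      push_cast
      exact mul_le_mul_of_nonneg_left h1 (Int.natCast_nonneg c)
    have hPP : P.det * P.det = (c : ℤ) ^ Q.X.n * Gr.det := by
      have := congrArg Matrix.det hgram
      rw [det_smul, det_mul, det_transpose, Fintype.card_fin] at this
      exact this.symm
    rw [det_mul, det_transpose, mul_pow, sq P.det, hPP, Nat.cast_mul, mul_pow, mul_assoc] at hb
    have hcn : (0 : ℤ) < (c : ℤ) ^ Q.X.n := pow_pos (by exact_mod_cast hc) _
    have hb' := le_of_mul_le_mul_left hb hcn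
    have hGpos : 0 ≤ Gr.det := by
      by_contra hneg
      have : (c : ℤ) ^ Q.X.n * Gr.det < 0 := mul_neg_of_pos_of_neg hcn (not_le.1 hneg)
      rw [← hPP] at this
      exact absurd this (not_lt.2 (mul_self_nonneg _))
    rw [Int.natAbs_of_nonneg hGpos] at hBd
    have hg' : 0 < Gr.det := lt_of_le_of_ne hGpos fun h => by rw [← h] at hGr; simp at hGr
    have hsq : Lcf.det ^ 2 ≤ (Bd : ℤ) ^ 2 := le_of_mul_le_mul_left (hb'.trans hBd) hg'
    have := Int.natAbs_le_iff_sq_le.2 hsq
    simpa using this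
  · have hLa : ∀ i : Fin Q.X.n, m ∣ (Lcf * cartanT Q).mulVec a i := fun i => by
      rw [← hrow, show ((Matrix.of fun j : Fin Q.X.n => cv ᵥ* M ^ (j : ℕ)).mulVec a) i
        = dotProduct (cv ᵥ* M ^ (i : ℕ)) a from rfl, ← dotProduct_mulVec]
      have hk : ∀ k : ℕ, ∀ j, m ∣ (M ^ k).mulVec a j - q ^ k * a j := by
        intro k
        induction k with
        | zero => intro j; simp
        | succ k ih =>
          intro j
          have e : (M ^ (k + 1)).mulVec a j - q ^ (k + 1) * a j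
              = M.mulVec ((M ^ k).mulVec a - q ^ k • a) j + q ^ k * (M.mulVec a j - q * a j) := by
            rw [pow_succ' M, ← mulVec_mulVec, mulVec_sub, mulVec_smul]
            simp only [Pi.sub_apply, Pi.smul_apply, smul_eq_mul]
            ring
          rw [e]
          exact dvd_add (dvd_mulVec M (fun i => by simpa using ih i) j)
            (dvd_mul_of_dvd_right (by simpa using (hmB j).neg_right) _)
      have e : dotProduct cv ((M ^ (i : ℕ)).mulVec a)
          = pr Q.X.n D s ((M ^ (i : ℕ)).mulVec a - q ^ (i : ℕ) • a) + q ^ (i : ℕ) * pr Q.X.n D s a := by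
        rw [pr_sub, pr_smul, sub_add_cancel]
        simp only [dotProduct, pr, cv]
        exact Finset.sum_congr rfl fun l _ => mul_comm _ _
      rw [e]
      exact dvd_add (dvd_pr D s fun j => by simpa using hk i j) (dvd_mul_of_dvd_right hma _)
    have h1 := dvd_mulVec (Lcf * cartanT Q).adjugate hLa j
    rw [mulVec_mulVec, adjugate_mul, smul_mulVec, one_mulVec, Pi.smul_apply, smul_eq_mul,
      det_mul] at h1
    rw [Int.dvd_natAbs.symm, Int.natAbs_mul, Int.natAbs_mul, hA, mul_one] at h1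
    rw [Int.dvd_natAbs.symm, Int.natAbs_mul, Int.natAbs_natCast]
    exact h1

end RootBound

/-- The self-centralising torus. -/
theorem exists_torus {D : ChevalleyDatum} {F : Type*} [Field F] [Fintype F] {q : ℕ}
    (hq : Fintype.card F = q) {p : ℕ} [Fact p.Prime] [CharP F p] {d : ℕ} [NeZero d]
    (Q : Chev.Data D (FiniteField.Extension F p d))
    (hH : Nat.card (D.diagonalSubgroup (FiniteField.Extension F p d))
      = (Nat.card (FiniteField.Extension F p d) - 1) ^ D.rank)
    {degs : List ℕ} (hdeg : Q.X.C.degCheck Q.X.n degs = true) (hlen : degs.length = Q.X.n)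
    (hd : d.totient = Q.X.n) (hA : (cartanT Q).det.natAbs = 1)
    (Gr P : Matrix (Fin Q.X.n) (Fin Q.X.n) ℤ) {c L Bd : ℕ} (hc : 0 < c)
    (hgram : (c : ℤ) • Gr = P.transpose * P) (hGr : 0 < Gr.det.natAbs)
    (hL : ∀ s, s < D.nroots → dotProduct (fun i : Fin Q.X.n => Q.K.cf s i)
      (Gr.mulVec fun i : Fin Q.X.n => Q.K.cf s i) ≤ L)
    (hBd : (L : ℤ) ^ Q.X.n ≤ Gr.det.natAbs * (Bd : ℤ) ^ 2)
    {e : ℕ} (he : (cyclotomic d ℤ).eval (q : ℤ) = e)
    (hsmall : ∀ l : ℕ, l.Prime → l ≤ Bd → ¬ l * l ∣ e)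
    {r : ℕ} [hr : Fact r.Prime] (hre : r ∣ e) (hrd : ¬ r ∣ d) (hrB : Bd < r)
    (hrdegs : ¬ r ∣ degs.prod) (hrG : r ∣ Nat.card ↥(D.group F)) :
    ∃ H : Subgroup ↥(D.group F), IsCyclic ↥H ∧ Nat.card ↥H = e ∧
      Subgroup.centralizer (H : Set ↥(D.group F)) = H := by
  classical
  set E := FiniteField.Extension F p d
  haveI : Fintype E := Fintype.ofFinite E
  haveI := Q.X.good.finite
  haveI : Fintype Q.X.M.Group := Fintype.ofFinite _
  set R := richOf Q hH with hR
  have hA0 : (cartanT Q).det ≠ 0 := fun h => by rw [h] at hA; simp at hA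
  have hd0 : 0 < d := Nat.pos_of_neZero d
  have hn0 : 0 < Q.X.n := hd ▸ Nat.totient_pos.2 hd0
  set m : ℕ := Nat.card E - 1 with hm
  have hE : Nat.card E = q ^ d := by
    rw [← hq, ← Nat.card_eq_fintype_card]; exact FiniteField.natCard_extension F p d
  have hq1 : 1 < q := hq ▸ Fintype.one_lt_card
  have hcard1 : 1 < Nat.card E := Finite.one_lt_card
  have hemZ : (e : ℤ) ∣ (q : ℤ) ^ d - 1 := by
    have h := (Polynomial.cyclotomic.dvd_X_pow_sub_one d ℤ)
    have h2 := Polynomial.eval_dvd (x := (q : ℤ)) h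
    rwa [he, eval_sub, eval_pow, eval_X, eval_one] at h2
  have hm0 : 0 < m := by omega
  have hmZ : (m : ℤ) = (q : ℤ) ^ d - 1 := by
    rw [hm, hE, Nat.cast_sub (Nat.one_le_pow _ _ (by omega))]
    push_cast; rfl
  have hem : e ∣ m := by rw [← Int.natCast_dvd_natCast, hmZ]; exact hemZ
  have hrm : r ∣ m := hre.trans hem
  have hrq : ¬ r ∣ q := by
    intro h
    have h1 : r ∣ q ^ d := dvd_pow h (NeZero.ne d)
    have h2 : m + 1 = q ^ d := by omega
    have h3 : r ∣ 1 := (Nat.dvd_add_iff_right hrm).2 (h2 ▸ h1)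
    exact hr.out.one_lt.ne' (Nat.dvd_one.1 h3)
  -- the element and its conjugate in the diagonal subgroup
  haveI : Finite ↥(D.group F) := inferInstance
  obtain ⟨x, hx⟩ := exists_prime_orderOf_dvd_card' r hrG
  set ι := mapG Q.K (algebraMap F E) with hι
  set φ := fieldG Q.K (frobE F p d) with hφ
  set xK := ι x with hxK
  have hxord : orderOf xK = r := (orderOf_injective ι (mapG_injective Q.K (algebraMap F E)) x).trans hx
  have hfix : ∀ y, φ (ι y) = ι y := fun y => (range_mapG Q hH (ι y)).1 ⟨y, rfl⟩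
  have hindex : ¬ r ∣ Q.sys.H.index := by
    have hcard := Q.card_group (degs := degs) hdeg hlen (d := 1) (by rw [one_mul, hH, Q.rank_eq])
    rw [one_mul, ← prod_geom (Nat.card E) (by omega) degs, hlen] at hcard
    have hHcard : Nat.card Q.sys.H = (Nat.card E - 1) ^ Q.X.n := by
      refine (?_ : Nat.card Q.sys.H = Nat.card (D.diagonalSubgroup E)).trans
        (hH.trans (congrArg _ Q.rank_eq))
      exact Nat.card_congr (Subgroup.subgroupOfEquivOfLe (by
        rw [Q.K.diagonalSubgroup_eq]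
        rintro _ ⟨v, rfl⟩
        have := (torG Q fun j => v ⟨j.val, Q.rank_eq.symm ▸ j.isLt⟩).2
        exact this)).toEquiv
    have h1 : Q.sys.H.index * Nat.card Q.sys.H = Nat.card ↥(D.group E) := Q.sys.H.index_mul_card
    rw [hcard, hHcard] at h1
    have h2 : Q.sys.H.index = Nat.card E ^ (D.nroots / 2) *
        (degs.map fun e => ∑ i ∈ Finset.range e, Nat.card E ^ i).prod := by
      refine Nat.eq_of_mul_eq_mul_right (pow_pos hm0 Q.X.n) ?_
      rw [h1]; ring
    intro h
    rw [h2] at h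
    rcases (Nat.Prime.dvd_mul hr.out).1 h with h3 | h3
    · exact hrq (hr.out.dvd_of_dvd_pow (hE ▸ hr.out.dvd_of_dvd_pow h3))
    · refine hrdegs ((ZMod.natCast_eq_zero_iff _ r).1 ?_)
      rw [← geom_prod_cast (r := r) (Q := Nat.card E) (by
        rw [show Nat.card E = m + 1 by omega, Nat.cast_add, (ZMod.natCast_eq_zero_iff _ r).2 hrm,
          Nat.cast_one, zero_add]) degs]
      exact (ZMod.natCast_eq_zero_iff _ r).2 h3
  obtain ⟨g, hg⟩ : ∃ g, g⁻¹ * xK * g ∈ Q.sys.H := by
    have hP : IsPGroup r (Subgroup.zpowers xK) :=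
      IsPGroup.of_card (n := 1) (by rw [Nat.card_zpowers, hxord, pow_one])
    have hmod := hP.card_modEq_card_fixedPoints (↥(D.group E) ⧸ Q.sys.H)
    have hne : Nat.card (MulAction.fixedPoints (Subgroup.zpowers xK) (↥(D.group E) ⧸ Q.sys.H)) ≠ 0 := by
      intro h0
      rw [h0] at hmod
      exact hindex (Nat.modEq_zero_iff_dvd.1 hmod)
    obtain ⟨⟨c, hc'⟩⟩ := (Nat.card_ne_zero.1 hne).1
    induction c using QuotientGroup.induction_on with
    | _ g =>
      refine ⟨g, ?_⟩
      have h1 := hc' ⟨xK, Subgroup.mem_zpowers xK⟩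
      have h2 := QuotientGroup.eq.1 h1
      have h3 := inv_mem h2
      simpa [mul_assoc] using h3
  obtain ⟨ω, hω⟩ := IsCyclic.exists_generator (α := Eˣ)
  have hωord : orderOf ω = m := by
    rw [orderOf_eq_card_of_forall_mem_zpowers hω, Nat.card_units]
  have hωz : ∀ k : ℤ, ω ^ k = 1 ↔ (m : ℤ) ∣ k := fun k => by
    rw [← orderOf_dvd_iff_zpow_eq_one, hωord]
  have hωeq : ∀ k l : ℤ, ω ^ k = ω ^ l ↔ (m : ℤ) ∣ k - l := fun k l => by
    rw [← hωz, _root_.zpow_sub, mul_inv_eq_one]
  let T : (Fin Q.X.n → ℤ) → ↥(D.group E) := fun a => R.tor (powTuple ω a)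
  have hTeq : ∀ a b, T a = T b ↔ ∀ j, (m : ℤ) ∣ a j - b j := fun a b => by
    constructor
    · intro h j; exact (hωeq _ _).1 (congrFun (R.tor_inj h) j)
    · intro h; exact congrArg R.tor (funext fun j => (hωeq _ _).2 (h j))
  have hTsurj : ∀ h ∈ Q.sys.H, ∃ a, h = T a := by
    intro h hh
    obtain ⟨v, rfl⟩ := R.exists_tor hh
    choose a ha using fun j => Subgroup.mem_zpowers_iff.1 (hω (v j))
    exact ⟨a, congrArg R.tor (funext fun j => (ha j).symm)⟩
  have hTH : ∀ a, T a ∈ Q.sys.H := fun a => R.tor_mem _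
  have hTadd : ∀ a b, T (a + b) = T a * T b := fun a b => by
    show R.tor _ = R.tor _ * R.tor _
    rw [← map_mul]; congr 1; funext j; exact _root_.zpow_add ω (a j) (b j)
  have hT0 : T 0 = 1 := by
    show R.tor _ = 1
    rw [show powTuple (n := Q.X.n) ω 0 = 1 from funext fun j => zpow_zero ω, map_one]
  have hTsmul : ∀ (k : ℕ) a, T ((k : ℤ) • a) = T a ^ k := fun k a => by
    show R.tor _ = R.tor _ ^ k
    rw [← map_pow]; congr 1; funext j
    simp only [powTuple, Pi.pow_apply, Pi.smul_apply, smul_eq_mul]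
    rw [← zpow_natCast (ω ^ a j), ← _root_.zpow_mul, mul_comm]
  have hφT : ∀ a, φ (T a) = T ((q : ℤ) • a) := by
    intro a
    rw [hTsmul]
    refine Subtype.ext (Units.ext ?_)
    ext i j
    rw [SubmonoidClass.coe_pow, Units.val_pow_eq_pow_val]
    show frobE F p d ((((torG Q (powTuple ω a) : ↥(D.group E)) : GL D.Idx E) : Matrix D.Idx D.Idx E) i j) = ((((torG Q (powTuple ω a) : ↥(D.group E)) : GL D.Idx E) : Matrix D.Idx D.Idx E) ^ q) i j
    rw [coe_torG]
    show frobE F p d (Matrix.diagonal _ i j) = (Matrix.diagonal _ ^ q) i j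
    rw [Matrix.diagonal_pow]
    by_cases hij : i = j
    · subst hij
      rw [Matrix.diagonal_apply_eq, Matrix.diagonal_apply_eq, frobE_apply, Pi.pow_apply, Nat.card_eq_fintype_card, hq]
    · simp [Matrix.diagonal_apply_ne _ hij]
  have hconjT : ∀ w a, Q.sys.rep w * T a * (Q.sys.rep w)⁻¹ = T ((wmat Q w).mulVec a) :=
    fun w a => rep_conj_tor Q w ω a
  have hregT : ∀ a, (∀ s, s < D.nroots → ¬ (m : ℤ) ∣ pr Q.X.n D s a) → ∀ s, s < D.nroots →
      ∀ u : E, ∀ t' : E, T a * Q.sys.x s u * (T a)⁻¹ = Q.sys.x s t' → t' = u → u = 0 := by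
    intro a ha s hs u t' h1 h2
    rw [h2] at h1
    rw [show T a = (richOf Q hH).tor (powTuple ω a) from rfl, tor_conj_x Q ω a hs] at h1
    have h3 : Q.K.xU E s (((ω ^ pr Q.X.n D s a : Eˣ) : E) * u + -u) = 1 := by
      rw [← Q.K.xU_add, show Q.K.xU E s (((ω ^ pr Q.X.n D s a : Eˣ) : E) * u) = Q.K.xU E s u from
        congrArg Subtype.val h1, Q.K.xU_add, add_neg_cancel, Q.K.xU_zero]
    have h4 := (Q.K.xU_eq_one_iff E hs _).1 h3
    by_contra hu
    refine ha s hs ((hωz _).1 (Units.ext (mul_right_cancel₀ hu ?_)))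
    rw [Units.val_one, one_mul]
    exact add_neg_eq_zero.1 h4
  obtain ⟨a, ha⟩ := hTsurj _ hg
  set t := T a with ht
  have ha' : g⁻¹ * xK * g = t := ha
  obtain ⟨mr, hmr⟩ := hrm
  have hmr0 : mr ≠ 0 := fun h => by rw [h, mul_zero] at hmr; omega
  have hab : ∀ j, (mr : ℤ) ∣ a j := by
    intro j
    have h1 : T ((r : ℤ) • a) = T 0 := by
      rw [hTsmul, hT0, show T a = g⁻¹ * xK * g from ha'.symm, show g⁻¹ * xK * g = g⁻¹ * xK * g⁻¹⁻¹ by rw [inv_inv], conj_pow,
        ← hxord, pow_orderOf_eq_one, mul_one, mul_inv_cancel]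
    have h2 := (hTeq _ _).1 h1 j
    simp only [Pi.smul_apply, smul_eq_mul, Pi.zero_apply, sub_zero, hmr, Nat.cast_mul] at h2
    exact Int.dvd_of_mul_dvd_mul_left (by exact_mod_cast hr.out.ne_zero) h2
  choose b hb using hab
  have habv : a = (mr : ℤ) • b := funext fun j => by simp [hb j]
  have hdvd : ∀ k : ℤ, (m : ℤ) ∣ (mr : ℤ) * k ↔ (r : ℤ) ∣ k := fun k => by
    rw [hmr, Nat.cast_mul, mul_comm (r : ℤ)]
    exact Int.mul_dvd_mul_iff_left (by exact_mod_cast hmr0)
  have hbne : ∃ j, ¬ (r : ℤ) ∣ b j := by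
    by_contra hall
    push Not at hall
    have h1 : t = 1 := by
      rw [ht, ← hT0, hTeq]
      intro j
      rw [habv, Pi.smul_apply, Pi.zero_apply, sub_zero, smul_eq_mul, hdvd]
      exact hall j
    rw [← ha'] at h1
    have h2 : xK = 1 := by
      have : g⁻¹ * xK = g⁻¹ := mul_eq_one_iff_eq_inv.1 h1
      exact mul_eq_left.1 this
    rw [h2, orderOf_one] at hxord
    exact hr.out.one_lt.ne hxord
  set nn := g⁻¹ * φ g with hnn
  have htwist : t * nn = nn * φ t := by
    rw [← ha', map_mul, map_mul, map_inv, hxK, hfix, hnn]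
    group
  -- a Weyl group element twisting `b`
  have htw : ∀ w, Q.sys.rep w * φ t * (Q.sys.rep w)⁻¹ = t →
      ∀ j, (r : ℤ) ∣ (q : ℤ) * b j - (wmat Q w⁻¹).mulVec b j := by
    intro w hw j
    rw [ht, hφT, hconjT, hTeq] at hw
    have h1 := dvd_mulVec (wmat Q w⁻¹) hw j
    rw [show (fun i => ((wmat Q w).mulVec ((q : ℤ) • a)) i - a i) = (wmat Q w).mulVec ((q : ℤ) • a) - a
      from rfl, mulVec_sub, mulVec_mulVec, ← wmat_mul Q hA0, inv_mul_cancel, wmat_one Q hA0,
      one_mulVec, habv, mulVec_smul] at h1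
    rw [← hdvd]
    convert h1 using 1
    simp only [Pi.sub_apply, Pi.smul_apply, smul_eq_mul]
    ring
  have hrW : ¬ r ∣ Nat.card Q.X.M.Group := by
    have hWcard : Nat.card Q.X.M.Group = degs.prod := by
      have h1 := Q.X.good.sum_pow_inv_eq (R := ℕ) 1 hdeg
      simpa [Nat.card_eq_fintype_card] using h1
    rwa [hWcard]
  have hpowW : ∀ w, wmat Q w ^ Nat.card Q.X.M.Group = 1 := fun w => by
    rw [← wmat_pow Q hA0, pow_card_eq_one', wmat_one Q hA0]
  obtain ⟨w0, hw0⟩ := conj_weyl Q (hφT a ▸ hTH _) (hTH a) htwist R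
  have hM0 : aeval (wmat Q w0⁻¹) (cyclotomic d ℤ) = 0 :=
    cyclo_aeval (N := Nat.card Q.X.M.Group) (r := r) (b := b) (q := (q : ℤ)) _ hd Nat.card_pos
      (hpowW _) hrW hrd (by rw [he]; exact_mod_cast hre) hbne
      (fun j => by simpa using (htw w0 hw0 j).neg_right)
  have hbreg : ∀ s, s < D.nroots → ¬ (r : ℤ) ∣ pr Q.X.n D s b := by
    intro s hs hdiv
    obtain ⟨D0, hD0, hD0le, hker⟩ := root_bound Q hH hA hd hd0 w0 hM0 Gr P hc hgram hGr hL hBd hs
    obtain ⟨j, hj⟩ := hbne
    rcases (Nat.prime_iff_prime_int.1 hr.out).dvd_or_dvd (hker r q b hdiv (htw w0 hw0) j) with h | h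
    · have := Nat.le_of_dvd hD0 (Int.natCast_dvd_natCast.1 h)
      omega
    · exact hj h
  have harega : ∀ s, s < D.nroots → ¬ (m : ℤ) ∣ pr Q.X.n D s a := fun s hs h => by
    rw [habv, pr_smul, hdvd] at h
    exact hbreg s hs h
  have hqa : ∀ s, s < D.nroots → ¬ (m : ℤ) ∣ pr Q.X.n D s ((q : ℤ) • a) := fun s hs h => by
    rw [habv, smul_comm, pr_smul, hdvd, pr_smul] at h
    rcases (Nat.prime_iff_prime_int.1 hr.out).dvd_or_dvd h with h | h
    · exact hrq (Int.natCast_dvd_natCast.1 h)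
    · exact hbreg s hs h
  obtain ⟨h0, hh0, w, hnw, hw⟩ := conj_regular Q (hφT a ▸ hTH _) (hTH a)
    (by rw [ht, hφT]; exact hregT _ hqa) (hregT a harega) htwist R
  set M := wmat Q w⁻¹ with hMdef
  have hM : aeval M (cyclotomic d ℤ) = 0 :=
    cyclo_aeval (N := Nat.card Q.X.M.Group) (r := r) (b := b) (q := (q : ℤ)) _ hd Nat.card_pos
      (hpowW _) hrW hrd (by rw [he]; exact_mod_cast hre) hbne
      (fun j => by simpa using (htw w hw j).neg_right)
  set B := (q : ℤ) • (1 : Matrix (Fin Q.X.n) (Fin Q.X.n) ℤ) - M with hB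
  have hBdet : B.det = e := by rw [hB, det_twist M hd hd0 hM hn0, he]
  have he0 : e ≠ 0 := fun h => by
    rw [h] at hem
    have := eq_zero_of_zero_dvd hem
    omega
  obtain ⟨me, hme⟩ := hem
  set Cm := (me : ℤ) • B.adjugate with hCm
  have hBC : ∀ y, B.mulVec (Cm.mulVec y) = (m : ℤ) • y := fun y => by
    rw [mulVec_mulVec, hCm, Matrix.mul_smul, mul_adjugate, hBdet, smul_smul, smul_mulVec,
      one_mulVec, hme]
    congr 1
    push_cast; ring
  have hBinj : ∀ u v, B.mulVec u = B.mulVec v → u = v := fun u v h =>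
    sub_eq_zero.1 (eq_zero_of_mulVec_eq_zero (by rw [hBdet]; exact_mod_cast he0)
      (by rw [mulVec_sub, h, sub_self]))
  have hBa : ∀ a', (∀ j, (m : ℤ) ∣ B.mulVec a' j) → ∃ y, a' = Cm.mulVec y := by
    intro a' h
    choose y hy using h
    exact ⟨y, hBinj _ _ (by rw [hBC]; funext j; simpa using hy j)⟩
  -- fixed torus elements
  have hfixT : ∀ a', φ (g * T a' * g⁻¹) = g * T a' * g⁻¹ ↔ ∀ j, (m : ℤ) ∣ B.mulVec a' j := by
    intro a'
    have e1 : φ (g * T a' * g⁻¹) = g * T ((wmat Q w).mulVec ((q : ℤ) • a')) * g⁻¹ := by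
      have e2 : φ g = g * (h0 * Q.sys.rep w) := by rw [← hnw, hnn, mul_inv_cancel_left]
      rw [map_mul, map_mul, map_inv, hφT, e2, ← hconjT]
      have e3 : Q.sys.rep w * T ((q : ℤ) • a') * (Q.sys.rep w)⁻¹ ∈ Q.sys.H :=
        Q.sys.rep_conj_H w (hTH _)
      have e4 := R.H_comm hh0 e3
      calc g * (h0 * Q.sys.rep w) * T ((q : ℤ) • a') * (g * (h0 * Q.sys.rep w))⁻¹
          = g * (h0 * (Q.sys.rep w * T ((q : ℤ) • a') * (Q.sys.rep w)⁻¹) * h0⁻¹) * g⁻¹ := by group
        _ = _ := by rw [e4, mul_inv_cancel_right]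
    rw [e1, mul_left_inj, mul_right_inj, hTeq]
    constructor
    · intro h j
      have h1 := dvd_mulVec (wmat Q w⁻¹) h j
      rw [show (fun i => ((wmat Q w).mulVec ((q : ℤ) • a')) i - a' i)
        = (wmat Q w).mulVec ((q : ℤ) • a') - a' from rfl, mulVec_sub, mulVec_mulVec,
        ← wmat_mul Q hA0, inv_mul_cancel, wmat_one Q hA0, one_mulVec] at h1
      rw [hB, sub_mulVec, smul_mulVec, one_mulVec]
      exact h1
    · intro h j
      have h1 := dvd_mulVec (wmat Q w) h j
      rw [hB, sub_mulVec, smul_mulVec,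
        one_mulVec, mulVec_sub, mulVec_mulVec, hMdef, ← wmat_mul Q hA0, mul_inv_cancel,
        wmat_one Q hA0, one_mulVec] at h1
      exact h1
  let Ψ : (Fin Q.X.n → ℤ) →+ Additive ↥(D.group E) :=
    { toFun := fun y => Additive.ofMul (g * T (Cm.mulVec y) * g⁻¹)
      map_zero' := by rw [mulVec_zero, hT0, mul_one, mul_inv_cancel]; rfl
      map_add' := fun y y' => by
        rw [mulVec_add, hTadd, ← ofMul_mul]
        congr 1
        group }
  set HF := Subgroup.centralizer ({x} : Set ↥(D.group F)) with hHF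
  have hmapHF : ∀ z, z ∈ HF.map ι ↔ ∃ y, g * T (Cm.mulVec y) * g⁻¹ = z := by
    intro z
    constructor
    · rintro ⟨z0, hz0, rfl⟩
      have hcomm : ι z0 * xK = xK * ι z0 := by
        rw [hxK, ← map_mul, ← map_mul, Subgroup.mem_centralizer_singleton_iff.1 hz0]
      have hc' : t * (g⁻¹ * ι z0 * g) = (g⁻¹ * ι z0 * g) * t := by
        rw [← ha']
        calc _ = g⁻¹ * (xK * ι z0) * g := by group
          _ = g⁻¹ * (ι z0 * xK) * g := by rw [hcomm]
          _ = _ := by group
      obtain ⟨h1, hh1, w', e1, e2⟩ :=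
        conj_regular Q (hTH a) (hTH a) (hregT a harega) (hregT a harega) hc' R
      have hw' : w' = 1 := by
        refine stab_eq_one Q hH hA0 hrW hbreg fun j => ?_
        rw [hconjT, hTeq] at e2
        have := e2 j
        rw [habv, mulVec_smul, Pi.smul_apply, Pi.smul_apply, ← smul_sub, smul_eq_mul, hdvd] at this
        exact this
      rw [hw', Q.sys.rep_one, mul_one] at e1
      obtain ⟨a', ha'⟩ := hTsurj h1 hh1
      have e3 : ι z0 = g * T a' * g⁻¹ := by rw [← ha', ← e1]; group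
      have hfixa : φ (g * T a' * g⁻¹) = g * T a' * g⁻¹ := by rw [← e3]; exact hfix z0
      obtain ⟨y, rfl⟩ := hBa a' ((hfixT a').1 hfixa)
      exact ⟨y, e3.symm⟩
    · rintro ⟨y, rfl⟩
      have hf : φ (g * T (Cm.mulVec y) * g⁻¹) = g * T (Cm.mulVec y) * g⁻¹ :=
        (hfixT _).2 fun j => by rw [hBC]; exact dvd_mul_right _ _
      obtain ⟨z0, hz0⟩ := (range_mapG Q hH _).2 hf
      refine ⟨z0, Subgroup.mem_centralizer_singleton_iff.2 (mapG_injective Q.K (algebraMap F E) ?_), hz0⟩
      show ι (z0 * x) = ι (x * z0)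
      rw [map_mul, map_mul, show ι z0 = g * T (Cm.mulVec y) * g⁻¹ from hz0, ← hxK,
        show xK = g * (g⁻¹ * xK * g) * g⁻¹ by group, ha']
      show g * T (Cm.mulVec y) * g⁻¹ * (g * T a * g⁻¹) = g * T a * g⁻¹ * (g * T (Cm.mulVec y) * g⁻¹)
      calc g * T (Cm.mulVec y) * g⁻¹ * (g * T a * g⁻¹) = g * (T (Cm.mulVec y) * T a) * g⁻¹ := by group
        _ = g * (T a * T (Cm.mulVec y)) * g⁻¹ := by rw [R.H_comm (hTH _) (hTH a)]
        _ = _ := by group
  have hcardHF : Nat.card HF = e := by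
    have h1 : Nat.card HF = Nat.card Ψ.range := by
      rw [Nat.card_congr (HF.equivMapOfInjective ι (mapG_injective Q.K (algebraMap F E))).toEquiv]
      exact Nat.card_congr (Equiv.subtypeEquiv Additive.ofMul fun z => by
        rw [hmapHF, AddMonoidHom.mem_range]
        exact exists_congr fun y => Additive.ofMul.injective.eq_iff.symm)
    rw [h1, ← AddSubgroup.index_ker Ψ]
    have hker : Ψ.ker = B.mulVecLin.range.toAddSubgroup := by
      ext y
      rw [AddMonoidHom.mem_ker, Submodule.mem_toAddSubgroup, LinearMap.mem_range]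
      show Additive.ofMul (g * T (Cm.mulVec y) * g⁻¹) = 0 ↔ _
      rw [ofMul_eq_zero, conj_eq_one_iff, ← hT0, hTeq]
      constructor
      · intro h
        choose z hz using h
        refine ⟨z, ?_⟩
        show B.mulVec z = y
        have h2 : Cm.mulVec y = (m : ℤ) • z := funext fun j => by simpa using hz j
        have h3 := hBC y
        rw [h2, mulVec_smul] at h3
        exact smul_right_injective _ (show (m : ℤ) ≠ 0 by omega) h3
      · rintro ⟨z, rfl⟩ j
        have h2 : Cm.mulVec (B.mulVec z) = (m : ℤ) • z := hBinj _ _ (by rw [hBC, mulVec_smul])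
        rw [show B.mulVecLin z = B.mulVec z from rfl, h2]
        simp
    rw [hker, index_range B (by rw [hBdet]; exact_mod_cast he0), hBdet, Int.natAbs_natCast]
  have hcomm : ∀ u v : HF, u * v = v * u := fun u v => by
    obtain ⟨y, hy⟩ := (hmapHF (ι u)).1 ⟨_, u.2, rfl⟩
    obtain ⟨y', hy'⟩ := (hmapHF (ι v)).1 ⟨_, v.2, rfl⟩
    refine Subtype.ext (mapG_injective Q.K (algebraMap F E) ?_)
    show ι ((u : ↥(D.group F)) * v) = ι (v * u)
    rw [map_mul, map_mul, ← hy, ← hy']
    calc _ = g * (T (Cm.mulVec y) * T (Cm.mulVec y')) * g⁻¹ := by group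
      _ = g * (T (Cm.mulVec y') * T (Cm.mulVec y)) * g⁻¹ := by rw [R.H_comm (hTH _) (hTH _)]
      _ = _ := by group
  refine ⟨HF, ?_, hcardHF, ?_⟩
  · letI : CommGroup HF := { (inferInstance : Group HF) with mul_comm := hcomm }
    refine isCyclic_of_prime_torsion fun l hl => ?_
    haveI : Fact l.Prime := ⟨hl⟩
    by_cases hlB : l ≤ Bd
    · let S : Subgroup HF := (powMonoidHom (α := HF) l).ker
      have hS : IsPGroup l S := fun z => ⟨1, by rw [pow_one]; exact Subtype.ext z.2⟩
      obtain ⟨k, hk⟩ := IsPGroup.iff_card.1 hS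
      have hdvdk : l ^ k ∣ e := by rw [← hk, ← hcardHF]; exact S.card_subgroup_dvd_card
      have hk1 : k ≤ 1 := by
        by_contra hk2
        exact hsmall l hl hlB (dvd_trans (by rw [← sq]; exact pow_dvd_pow l (by omega)) hdvdk)
      calc Nat.card {z : HF // z ^ l = 1} = Nat.card S :=
            Nat.card_congr (Equiv.subtypeEquivRight fun z => Iff.rfl)
        _ = l ^ k := hk
        _ ≤ l ^ 1 := Nat.pow_le_pow_right hl.pos hk1
        _ = l := pow_one l
    · push Not at hlB
      obtain ⟨D0, hD0, hD0le, hker⟩ := root_bound Q hH hA hd hd0 w hM Gr P hc hgram hGr hL hBd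
        (simple_lt Q.X.good ⟨0, hn0⟩)
      choose y hy using fun z : HF => (hmapHF (ι z)).1 ⟨_, z.2, rfl⟩
      let f : {z : HF // z ^ l = 1} → {u : Eˣ // u ^ l = 1} := fun z =>
        ⟨ω ^ pr Q.X.n D (D.simple 0) (Cm.mulVec (y z.1)), by
          have h1 : g * T (Cm.mulVec (y z.1)) ^ l * g⁻¹ = 1 := by
            rw [← conj_pow, hy, ← map_pow,
              show ((z.1 : HF) : ↥(D.group F)) ^ l = ((z.1 ^ l : HF) : ↥(D.group F)) from rfl, z.2]
            exact map_one ι
          rw [conj_eq_one_iff, ← hTsmul, ← hT0, hTeq] at h1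
          rw [← zpow_natCast, ← _root_.zpow_mul, hωz, mul_comm, ← pr_smul]
          exact dvd_pr D _ fun j => by simpa using h1 j⟩
      have hfinj : Function.Injective f := by
        intro z z' he'
        have h1 := (hωeq _ _).1 (congrArg Subtype.val he')
        rw [← pr_sub, ← mulVec_sub] at h1
        set dd := Cm.mulVec (y z.1 - y z'.1) with hdd
        have h2 := hker m q dd h1 fun j => by
          have := hBC (y z.1 - y z'.1)
          rw [← hdd, hB, sub_mulVec, smul_mulVec, one_mulVec] at this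
          have h := congrFun this j
          simp only [Pi.sub_apply, Pi.smul_apply, smul_eq_mul] at h
          rw [h]; exact dvd_mul_right _ _
        have hl' : ∀ j, (m : ℤ) ∣ (l : ℤ) * dd j := by
          intro j
          have h3 : ∀ z : {z : HF // z ^ l = 1}, ∀ j, (m : ℤ) ∣ (l : ℤ) * Cm.mulVec (y z.1) j := by
            intro z j
            have h1 : g * T (Cm.mulVec (y z.1)) ^ l * g⁻¹ = 1 := by
              rw [← conj_pow, hy, ← map_pow,
                show ((z.1 : HF) : ↥(D.group F)) ^ l = ((z.1 ^ l : HF) : ↥(D.group F)) from rfl, z.2]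
              exact map_one ι
            rw [conj_eq_one_iff, ← hTsmul, ← hT0, hTeq] at h1
            simpa using h1 j
          rw [hdd, mulVec_sub, Pi.sub_apply, mul_sub]
          exact dvd_sub (h3 z j) (h3 z' j)
        have hcop : IsCoprime (D0 : ℤ) (l : ℤ) := by
          rw [Int.isCoprime_iff_gcd_eq_one, Int.gcd_natCast_natCast]
          exact ((Nat.Prime.coprime_iff_not_dvd hl).2 fun h => by
            have := Nat.le_of_dvd hD0 h; omega).symm
        obtain ⟨u, v, huv⟩ := hcop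
        have hTT : T (Cm.mulVec (y z.1)) = T (Cm.mulVec (y z'.1)) := by
          rw [hTeq]
          intro j
          have e : Cm.mulVec (y z.1) j - Cm.mulVec (y z'.1) j
              = u * ((D0 : ℤ) * dd j) + v * ((l : ℤ) * dd j) := by
            rw [← mul_assoc, ← mul_assoc, ← add_mul, huv, one_mul, hdd, mulVec_sub]; rfl
          rw [e]
          exact dvd_add (dvd_mul_of_dvd_right (h2 j) _) (dvd_mul_of_dvd_right (hl' j) _)
        refine Subtype.ext (Subtype.ext (mapG_injective Q.K (algebraMap F E) ?_))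
        show ι _ = ι _
        rw [← hy, ← hy, hTT]
      refine le_trans (Nat.card_le_card_of_injective f hfinj) ?_
      rw [Nat.card_eq_fintype_card, Fintype.card_subtype]
      exact IsCyclic.card_pow_eq_one_le hl.pos
  · refine le_antisymm (fun z hz => ?_) (fun z hz => ?_)
    · refine Subgroup.mem_centralizer_singleton_iff.2 ?_
      exact (Subgroup.mem_centralizer_iff.1 hz x (Subgroup.mem_centralizer_singleton_iff.2 rfl)).symm
    · refine Subgroup.mem_centralizer_iff.2 fun u hu => ?_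
      exact congrArg Subtype.val (hcomm ⟨u, hu⟩ ⟨z, hz⟩)

end Cfsg.Agent.Chevalley.TwTorus
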