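import Cfsg.Agent.Chevalley.Weights.Inst
import Cfsg.Agent.Chevalley.TwTorus.Lattice

/-!
Root functionals on the cocharacter lattice, the integer matrices of the Weyl group, and conjugation
of the torus.
-/
set_option autoImplicit false
set_option linter.style.haveILetI false
set_option linter.unusedSectionVars false

namespace Cfsg.Agent.Chevalley.TwTorus

open Cfsg.Lie Cfsg.Agent.H37 Cfsg.Agent.H37.RootSys Cfsg.Agent.Chevalley.Weights Matrix

variable {D : ChevalleyDatum} {F : Type*} [Field F] (Q : H37.Chev.Data D F)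

/-- The value of a root on a cocharacter. -/
def pr (n : ℕ) (D : ChevalleyDatum) (s : ℕ) (a : Fin n → ℤ) : ℤ := ∑ m, a m * D.cartan m s

/-- The integer matrix of a Weyl group element on cocharacters. -/
noncomputable def wmat (w : Q.X.M.Group) : Matrix (Fin Q.X.n) (Fin Q.X.n) ℤ :=
  Matrix.of fun j m => cor D (act Q.X.good w (D.simple m)) j

/-- The Cartan matrix, transposed, of the datum. -/
def cartanT : Matrix (Fin Q.X.n) (Fin Q.X.n) ℤ := Matrix.of fun i m => D.cartan m (D.simple i)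

theorem pr_cartan {s : ℕ} (hs : s < D.nroots) (a : Fin Q.X.n → ℤ) :
    pr Q.X.n D s a = ∑ i : Fin Q.X.n, Q.K.cf s i * pr Q.X.n D (D.simple i) a := by
  simp only [pr, Finset.mul_sum]
  rw [Finset.sum_comm]
  refine Finset.sum_congr rfl fun m _ => ?_
  rw [Q.K.cartan_lin m (Q.rank_eq.symm ▸ m.isLt) s hs, list_sum_range_map, Q.rank_eq,
    ← Fin.sum_univ_eq_sum_range (fun j => Q.K.cf s j * D.cartan m (D.simple j)) Q.X.n,
    Finset.mul_sum]
  exact Finset.sum_congr rfl fun i _ => by ring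

theorem pairing_sigma (i : Fin Q.X.n) {r s : ℕ} (hr : r < D.nroots) (hs : s < D.nroots) :
    pairingSum D (Q.X.C.sigma i r) (Q.X.C.sigma i s) = pairingSum D r s := by
  have hi : i.val < D.rank := Q.rank_eq.symm ▸ i.isLt
  rw [sigma_eq_w Q.X.good Q.K i.isLt hr, sigma_eq_w Q.X.good Q.K i.isLt hs,
    Q.K.pairing_w hi hr (Q.K.w_lt i hi s hs).1, (Q.K.w_lt i hi s hs).2]

theorem pairing_act (w : Q.X.M.Group) : ∀ r s, r < D.nroots → s < D.nroots →
    pairingSum D (act Q.X.good w r) (act Q.X.good w s) = pairingSum D r s := by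
  refine Sys.gen_induction (p := fun w => ∀ r s, r < D.nroots → s < D.nroots →
    pairingSum D (act Q.X.good w r) (act Q.X.good w s) = pairingSum D r s) ?_ ?_ w
  · intro r s _ _; rw [act_one, act_one]
  · intro i w ih r s hr hs
    rw [act_mul _ _ hr, act_mul _ _ hs, act_simple i (act_lt w hr), act_simple i (act_lt w hs),
      pairing_sigma Q i (act_lt w hr) (act_lt w hs), ih r s hr hs]

theorem pr_wmat (w : Q.X.M.Group) {s : ℕ} (hs : s < D.nroots) (a : Fin Q.X.n → ℤ) :
    pr Q.X.n D s ((wmat Q w).mulVec a) = pr Q.X.n D (act Q.X.good w⁻¹ s) a := by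
  have hcol : ∀ m : Fin Q.X.n, ∑ j : Fin Q.X.n, cor D (act Q.X.good w (D.simple m)) j * D.cartan j s
      = D.cartan m (act Q.X.good w⁻¹ s) := by
    intro m
    have h := pairing_act Q w _ _ (simple_lt Q.X.good m) (act_lt (hC := Q.X.good) w⁻¹ hs)
    rw [act_act_inv w hs, Q.K.pairing_simple (Q.rank_eq.symm ▸ m.isLt)] at h
    rw [← h, pairingSum, Q.rank_eq]
    exact Fin.sum_univ_eq_sum_range
      (fun j => cor D (act Q.X.good w (D.simple m)) j * D.cartan j s) Q.X.n
  simp only [pr, Matrix.mulVec, dotProduct, wmat, Matrix.of_apply, Finset.sum_mul]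
  rw [Finset.sum_comm]
  refine Finset.sum_congr rfl fun m _ => ?_
  rw [← hcol m, Finset.mul_sum]
  exact Finset.sum_congr rfl fun j _ => by ring

theorem eq_of_pr (hA : (cartanT Q).det ≠ 0) {a b : Fin Q.X.n → ℤ}
    (h : ∀ i : Fin Q.X.n, pr Q.X.n D (D.simple i) a = pr Q.X.n D (D.simple i) b) : a = b := by
  refine sub_eq_zero.1 (eq_zero_of_mulVec_eq_zero hA (funext fun i => ?_))
  rw [mulVec_sub, Pi.sub_apply, Pi.zero_apply, sub_eq_zero]
  have := h i
  simp only [pr] at this
  simpa [cartanT, Matrix.mulVec, dotProduct, mul_comm] using this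

theorem wmat_mul (hA : (cartanT Q).det ≠ 0) (v w : Q.X.M.Group) :
    wmat Q (v * w) = wmat Q v * wmat Q w := by
  refine Matrix.ext_of_mulVec_single fun m => eq_of_pr Q hA fun i => ?_
  have hi := simple_lt Q.X.good i
  rw [pr_wmat Q _ hi, ← mulVec_mulVec, pr_wmat Q v hi, pr_wmat Q w (act_lt _ hi), _root_.mul_inv_rev,
    act_mul _ _ hi]

theorem wmat_one (hA : (cartanT Q).det ≠ 0) : wmat Q 1 = 1 := by
  refine Matrix.ext_of_mulVec_single fun m => eq_of_pr Q hA fun i => ?_
  rw [pr_wmat Q 1 (simple_lt Q.X.good i), inv_one, act_one, one_mulVec]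

theorem wmat_pow (hA : (cartanT Q).det ≠ 0) (w : Q.X.M.Group) (k : ℕ) :
    wmat Q (w ^ k) = wmat Q w ^ k := by
  induction k with
  | zero => rw [pow_zero, pow_zero, wmat_one Q hA]
  | succ k ih => rw [pow_succ, pow_succ, wmat_mul Q hA, ih]

theorem pr_wmat_pow (hA : (cartanT Q).det ≠ 0) (w : Q.X.M.Group) (k : ℕ) {s : ℕ}
    (hs : s < D.nroots) (a : Fin Q.X.n → ℤ) :
    pr Q.X.n D s ((wmat Q w ^ k).mulVec a) = pr Q.X.n D (act Q.X.good (w ^ k)⁻¹ s) a := by
  rw [← wmat_pow Q hA, pr_wmat Q _ hs]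

/-- A tuple of powers. -/
def powTuple {K : Type*} [Field K] {n : ℕ} (ω : Kˣ) (a : Fin n → ℤ) : Fin n → Kˣ :=
  fun j => ω ^ a j

/-- The torus is moved by the representatives through the matrices. -/
theorem rep_conj_tor [Finite F] {hcard : Nat.card (D.diagonalSubgroup F) = (Nat.card F - 1) ^ D.rank}
    (w : Q.X.M.Group) (ω : Fˣ) (a : Fin Q.X.n → ℤ) :
    Q.sys.rep w * (richOf Q hcard).tor (powTuple ω a) * (Q.sys.rep w)⁻¹
      = (richOf Q hcard).tor (powTuple ω ((wmat Q w).mulVec a)) := by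
  set R := richOf Q hcard
  rw [← Finset.univ_prod_mulSingle (powTuple ω a)]
  have h : ∀ T : Finset (Fin Q.X.n),
      Q.sys.rep w * R.tor (∏ m ∈ T, Pi.mulSingle m (powTuple ω a m)) * (Q.sys.rep w)⁻¹
        = R.tor (fun j => ω ^ ∑ m ∈ T, wmat Q w j m * a m) := by
    intro T
    induction T using Finset.induction with
    | empty =>
      simp only [Finset.prod_empty, map_one, mul_one, mul_inv_cancel, Finset.sum_empty, zpow_zero]
      exact (map_one R.tor).symm
    | insert m T hm ih =>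
      rw [Finset.prod_insert hm, map_mul, show ∀ x y z : ↥(D.group F),
        z * (x * y) * z⁻¹ = z * x * z⁻¹ * (z * y * z⁻¹) from fun x y z => by group, ih,
        ← R.co_simple m, R.rep_conj_co w _ (simple_lt Q.X.good m), Rich.co, ← map_mul]
      congr 1
      funext j
      show (ω ^ a m) ^ cor D (act Q.X.good w (D.simple m)) j *
        ω ^ ∑ m ∈ T, wmat Q w j m * a m = ω ^ ∑ m ∈ insert m T, wmat Q w j m * a m
      rw [Finset.sum_insert hm, _root_.zpow_add, ← _root_.zpow_mul,
        show wmat Q w j m = cor D (act Q.X.good w (D.simple m)) j from rfl, mul_comm (a m)]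
  rw [h]
  rfl

/-- Conjugation of a root element by the torus. -/
theorem tor_conj_x [Finite F] {hcard : Nat.card (D.diagonalSubgroup F) = (Nat.card F - 1) ^ D.rank}
    (ω : Fˣ) (a : Fin Q.X.n → ℤ) {s : ℕ} (hs : s < D.nroots) (t : F) :
    (richOf Q hcard).tor (powTuple ω a) * Q.sys.x s t * ((richOf Q hcard).tor (powTuple ω a))⁻¹
      = Q.sys.x s (((ω ^ pr Q.X.n D s a : Fˣ) : F) * t) := by
  set R := richOf Q hcard
  rw [← Finset.univ_prod_mulSingle (powTuple ω a)]
  have h : ∀ (T : Finset (Fin Q.X.n)) (t : F),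
      R.tor (∏ m ∈ T, Pi.mulSingle m (powTuple ω a m)) * Q.sys.x s t *
        (R.tor (∏ m ∈ T, Pi.mulSingle m (powTuple ω a m)))⁻¹
        = Q.sys.x s (((ω ^ ∑ m ∈ T, a m * D.cartan m s : Fˣ) : F) * t) := by
    intro T
    induction T using Finset.induction with
    | empty => intro t; simp
    | insert m T hm ih =>
      intro t
      rw [Finset.prod_insert hm, map_mul, show ∀ x y z : ↥(D.group F),
        x * y * z * (x * y)⁻¹ = x * (y * z * y⁻¹) * x⁻¹ from fun x y z => by group, ih,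
        Finset.sum_insert hm, _root_.zpow_add, Units.val_mul, mul_assoc]
      refine Subtype.ext ?_
      show (torG Q (Pi.mulSingle m (powTuple ω a m)) : GL D.Idx F) * (Q.K.xU F s _ *
        (torG Q (Pi.mulSingle m (powTuple ω a m)) : GL D.Idx F)⁻¹) = Q.K.xU F s _
      rw [← mul_assoc, coe_torG_single, Q.K.hU_conj_xU F (simple_lt Q.X.good m) hs,
        Q.K.pairing_simple (Q.rank_eq.symm ▸ m.isLt), powTuple, ← _root_.zpow_mul, mul_assoc]
  exact h Finset.univ t

end Cfsg.Agent.Chevalley.TwTorus
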